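import Groth.Agent.AGF.K925.Fam
import Groth.Agent.Sga3B.Parab.DynBorel128
import Groth.Agent.Sga3B.Parab.Uncond688
import Groth.Agent.Sga3B.Parab.PbK2BFin
import Groth.Agent.Sga3B.Parab.DynCell998
import Groth.Agent.Sga3B.Parab.DynExist998
import Groth.Agent.S3900
import Groth.Agent.S0115

/-!
# Opposite Borel subgroups, their fixed points on `G/P`, and the two open cells
-/

set_option autoImplicit false
set_option linter.unusedSectionVars false
universe u
open CategoryTheory MonoidalCategory CartesianMonoidalCategory MonObj GrpObj AlgebraicGeometry Limits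

namespace K925.Cell

open Groth.Agent.Sga3B Groth.Agent.Sga3B.Parab K925.Fam K499.ActPts
open Groth.Agent.Sga3B.Parab.DynExist998 Groth.Agent.Sga3B.Parab.DynCell998
open Groth.Agent.Sga3B.Parab.OppPts172

section Quot

variable {S : Scheme.{u}} {G P X : Over S} [GrpObj G] [GrpObj P] {i : P ⟶ G}
  {a : AlgGrp.Action G X} {o : 𝟙_ (Over S) ⟶ X}

/-- The subgroup fixes the base point of the quotient. -/
theorem act_sub (hX : AGF.IsQuotient i X a o) {T : Over S} (p : T ⟶ P) :
    lift (p ≫ i) (toUnit T ≫ o) ≫ a.act = toUnit T ≫ o := by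
  have h := hX.2.2.2.w
  have h1 := congr(lift (1 : T ⟶ G) p ≫ $h)
  rw [lift_fst_assoc, comp_orbitMap, one_lift, ← Category.assoc, comp_orbitMap] at h1
  have h2 : lift (1 : T ⟶ G) p ≫ G ◁ i ≫ μ[G] = p ≫ i := by
    rw [← Category.assoc, lift_whiskerLeft, ← Hom.mul_def, _root_.one_mul]
  rw [h2] at h1
  exact h1.symm

/-- Translating the base point. -/
theorem orbitMap_pt (g : 𝟙_ (Over S) ⟶ G) :
    a.orbitMap (lift g o ≫ a.act) = (𝟙 G * (toUnit G ≫ g)) ≫ a.orbitMap o := by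
  rw [comp_orbitMap, mul_lift]
  change lift (𝟙 G) (toUnit G ≫ lift g o ≫ a.act) ≫ a.act = _
  congr 2
  rw [← Category.assoc, comp_lift]

/-- Right translation. -/
noncomputable def rightIso (g : 𝟙_ (Over S) ⟶ G) : G ≅ G where
  hom := 𝟙 G * (toUnit G ≫ g)
  inv := 𝟙 G * (toUnit G ≫ g⁻¹)
  hom_inv_id := by
    rw [MonObj.comp_mul, Category.comp_id, ← Category.assoc, toUnit_unique
      ((𝟙 G * (toUnit G ≫ g)) ≫ toUnit G) (toUnit G), GrpObj.comp_inv, mul_inv_cancel_right]
  inv_hom_id := by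
    rw [MonObj.comp_mul, Category.comp_id, ← Category.assoc, toUnit_unique
      ((𝟙 G * (toUnit G ≫ g⁻¹)) ≫ toUnit G) (toUnit G), GrpObj.comp_inv, inv_mul_cancel_right]

/-- Conjugation: the conjugate of the subgroup fixes the translate of the base point. -/
theorem act_conj (hX : AGF.IsQuotient i X a o) (g : 𝟙_ (Over S) ⟶ G) {T : Over S} (p : T ⟶ P)
    (b : T ⟶ G) (hb : b = (toUnit T ≫ g) * (p ≫ i) * (toUnit T ≫ g)⁻¹) :
    lift b (toUnit T ≫ lift g o ≫ a.act) ≫ a.act = toUnit T ≫ lift g o ≫ a.act := by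
  have h1 : toUnit T ≫ lift g o ≫ a.act = lift (toUnit T ≫ g) (toUnit T ≫ o) ≫ a.act := by
    rw [← Category.assoc, comp_lift]
  rw [h1, hb, ← mul_lift, inv_mul_cancel_right, mul_lift, act_sub hX]

end Quot

section Field

variable {k : Type u} [Field k] [IsAlgClosed k] {G P X : Over (Spec (CommRingCat.of k))}
  [GrpObj G] [GrpObj P] {i : P ⟶ G}
  {a : AlgGrp.Action G X} {o : 𝟙_ (Over (Spec (CommRingCat.of k))) ⟶ X}

omit [IsAlgClosed k] in
/-- The orbit map of a quotient by a smooth subgroup is smooth. -/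
theorem smooth_orbitMap [Smooth P.hom] [LocallyOfFiniteType G.hom] (hX : AGF.IsQuotient i X a o) :
    Smooth (a.orbitMap o).left := by
  obtain ⟨h1, h2, h3, hpb⟩ := hX
  have hft : LocallyOfFiniteType (a.orbitMap o).left := by
    have : LocallyOfFiniteType ((a.orbitMap o).left ≫ X.hom) := by
      rw [Over.w]; infer_instance
    exact locallyOfFiniteType_of_comp _ X.hom
  have hN : IsLocallyNoetherian X.left := LocallyOfFiniteType.isLocallyNoetherian X.hom
  have hfp : LocallyOfFinitePresentation (a.orbitMap o).left :=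
    LocallyOfFinitePresentation.iff_locallyOfFiniteType.2 hft
  have hfst : Smooth (fst G P).left := inferInstanceAs (Smooth (pullback.fst G.hom P.hom))
  have hpb' : IsPullback (fst G P).left ((G ◁ i) ≫ μ[G]).left (a.orbitMap o).left (a.orbitMap o).left :=
    hpb.map (Over.forget _)
  apply MorphismProperty.of_pullback_fst_of_descendsAlong (P := @Smooth)
    (Q := @Surjective ⊓ @Flat ⊓ @LocallyOfFinitePresentation) (f := (a.orbitMap o).left)
    (g := (a.orbitMap o).left) ⟨⟨h3, h2⟩, hfp⟩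
  exact (MorphismProperty.arrow_mk_iso_iff (@Smooth) (Arrow.isoMk hpb'.isoPullback (Iso.refl _) (by
      simp))).mp hfst

omit [IsAlgClosed k] in
theorem smooth_orbitMap_pt [Smooth P.hom] [LocallyOfFiniteType G.hom] (hX : AGF.IsQuotient i X a o)
    (g : 𝟙_ (Over (Spec (CommRingCat.of k))) ⟶ G) :
    Smooth (a.orbitMap (lift g o ≫ a.act)).left := by
  have h := smooth_orbitMap hX
  have h1 : a.orbitMap (lift g o ≫ a.act) = (rightIso g).hom ≫ a.orbitMap o := orbitMap_pt g
  rw [h1, Over.comp_left]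
  infer_instance

/-- A cocharacter with `P_G(λ)` and `P_G(-λ)` both Borel subgroups. -/
theorem exists_lam (hG : Red.IsReductiveOver k G) {B : Over (Spec (CommRingCat.of k))} [GrpObj B]
    {b : B ⟶ G} (hb : Red.IsBorelOver k b) :
    ∃ lam : Red.Gm (Spec (CommRingCat.of k)) ⟶ G, IsMonHom lam ∧ IsDynP lam b ∧
      ∃ (B' : Over (Spec (CommRingCat.of k))) (_ : GrpObj B') (b' : B' ⟶ G),
        IsDynP (negLam lam) b' ∧ Red.IsBorelOver k b' := by
  have hGaff : IsAffine G.left := hG.1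
  have hGa : IsAffineHom G.hom := inferInstance
  have hGs : Smooth G.hom := hG.2.1
  have hbm := hb.1
  have hbc : IsClosedImmersion b.left := hb.2.1
  have hBs : Smooth B.hom := hb.2.2.1
  have hBaff : IsAffine B.left := isAffine_of_isAffineHom b.left
  obtain ⟨T, _, t, hT, -⟩ := RG.BrHc.exists_isMaximalTorus B
  obtain ⟨-, mu, hmu, hP, hZ⟩ := PbK2BFin.dynK2B k G B b hG hb T t hT
  have htm := hT.1
  have hlam : IsMonHom (mu ≫ t ≫ b) := inferInstance
  refine ⟨mu ≫ t ≫ b, hlam, hP, ?_⟩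
  obtain ⟨B', _, b', hP', -⟩ := exists_isDynP (negLam (mu ≫ t ≫ b))
  have hZ' : IsDynZ (negLam (mu ≫ t ≫ b)) (t ≫ b) :=
    { isMonHom := hZ.isMonHom
      mono := hZ.mono
      iff_ptZ := fun X g => by rw [hZ.iff_ptZ, ptZ_negLam] }
  refine ⟨B', inferInstance, b', hP', ?_⟩
  exact DynBorel128.isBorelOver_of_isDynP Uncond688.dynK1 hG (negLam (mu ≫ t ≫ b)) hZ' hT.2.2.1 hP'

/-- A Borel subgroup fixes a point of `G/P`. -/
theorem exists_fixed (hG : Red.IsReductiveOver k G) (hP : Red.IsParabolicOver k i)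
    (hX : AGF.IsQuotient i X a o) {B : Over (Spec (CommRingCat.of k))} [GrpObj B] {b : B ⟶ G}
    (hb : Red.IsBorelOver k b) :
    ∃ g : 𝟙_ (Over (Spec (CommRingCat.of k))) ⟶ G,
      ∀ (T : Over (Spec (CommRingCat.of k))) (β : T ⟶ B),
        lift (β ≫ b) (toUnit T ≫ lift g o ≫ a.act) ≫ a.act = toUnit T ≫ lift g o ≫ a.act := by
  obtain ⟨him, hic, his, B₀, _, b₀, hb₀⟩ := hP
  have hGaff : IsAffine G.left := hG.1
  have hGs : Smooth G.hom := hG.2.1
  have hGc : ConnectedSpace G.left := hG.2.2.1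
  obtain ⟨g, f, hf⟩ := Groth.Agent.S3900.result k G B₀ B (b₀ ≫ i) b hb₀ hb
  refine ⟨g, fun T β => act_conj hX g (β ≫ f.inv ≫ b₀) _ ?_⟩
  have h1 : β ≫ b = (β ≫ f.inv) ≫ f.hom ≫ b := by simp
  rw [h1, hf, AGF.conjBy, MonObj.comp_mul, MonObj.comp_mul, GrpObj.comp_inv]
  have h2 : (β ≫ f.inv) ≫ toUnit B₀ ≫ g = toUnit T ≫ g := by
    rw [← Category.assoc, toUnit_unique ((β ≫ f.inv) ≫ toUnit B₀) (toUnit T)]
  rw [h2]
  simp only [Category.assoc]

end Field

end K925.Cell
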