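import Groth.Agent.AGF.K925.DualD
import Mathlib.RingTheory.DualNumber

/-!
# Tangent vectors as morphisms from the spectrum of the dual numbers
-/

set_option autoImplicit false
universe u

open CategoryTheory CategoryTheory.Limits AlgebraicGeometry TopologicalSpace Opposite

namespace K925.Tan

open K925.DualD

section Gen

variable {T X : Scheme.{u}} [IsAffine T] {U : X.Opens} (hU : IsAffineOpen U)

theorem eq_fromSpec (r : T ⟶ X) (h : ⊤ ≤ r ⁻¹ᵁ U) :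
    r = T.isoSpec.hom ≫ Spec.map (r.appLE U ⊤ h) ≫ hU.fromSpec := by
  rw [hU.SpecMap_appLE_fromSpec r (isAffineOpen_top T) h, IsAffineOpen.fromSpec_top,
    Iso.hom_inv_id_assoc]

include hU in
theorem ext_appLE {r r' : T ⟶ X} (h : ⊤ ≤ r ⁻¹ᵁ U) (h' : ⊤ ≤ r' ⁻¹ᵁ U)
    (e : ∀ a, r.appLE U ⊤ h a = r'.appLE U ⊤ h' a) : r = r' := by
  rw [eq_fromSpec hU r h, eq_fromSpec hU r' h']
  congr 3
  exact CommRingCat.hom_ext (RingHom.ext e)

/-- The morphism to an affine open given by a ring map. -/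
noncomputable def ofRing (φ : Γ(X, U) ⟶ Γ(T, ⊤)) : T ⟶ X :=
  T.isoSpec.hom ≫ Spec.map φ ≫ hU.fromSpec

theorem ofRing_le (φ : Γ(X, U) ⟶ Γ(T, ⊤)) : ⊤ ≤ (ofRing hU φ) ⁻¹ᵁ U := by
  rw [ofRing, Scheme.Hom.comp_preimage, Scheme.Hom.comp_preimage, hU.fromSpec_preimage_self]
  exact le_rfl

theorem ofRing_appLE (φ : Γ(X, U) ⟶ Γ(T, ⊤)) (h : ⊤ ≤ (ofRing hU φ) ⁻¹ᵁ U) :
    (ofRing hU φ).appLE U ⊤ h = φ := by
  have h1 := hU.SpecMap_appLE_fromSpec (ofRing hU φ) (isAffineOpen_top T) h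
  rw [IsAffineOpen.fromSpec_top] at h1
  have : Mono hU.fromSpec := inferInstance
  refine Spec.map_injective ((cancel_mono hU.fromSpec).1 (h1.trans ?_))
  rw [ofRing, Iso.inv_hom_id_assoc]

end Gen

variable {k : Type u} [Field k]

theorem E_mul_E : E k * E k = 0 := by
  rw [E, ← map_mul, DualNumber.eps_mul_eps, map_zero]

theorem dual_zero {a a' b' : Γ(Spec (CommRingCat.of k), ⊤)}
    (h : (je k).appTop a = (je k).appTop a' + (je k).appTop b' * E k) : b' = 0 := by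
  refine (dual_inj (a := a) (b := 0) (a' := a') (b' := b') ?_).symm
  rw [map_zero, zero_mul, add_zero]
  exact h

section Phi

variable {X : Scheme.{u}} {U : X.Opens} (w : Spec (CommRingCat.of k) ⟶ X) (hw : ⊤ ≤ w ⁻¹ᵁ U)
  (δ : Γ(X, U) →+ Γ(Spec (CommRingCat.of k), ⊤))
  (hδ : ∀ a b, δ (a * b) = w.appLE U ⊤ hw a * δ b + w.appLE U ⊤ hw b * δ a)

/-- The ring map `a ↦ a(w) + δ(a) ε`. -/
noncomputable def phiR : Γ(X, U) →+* Γ(Te k, ⊤) :=
  { toFun := fun a => (je k).appTop (w.appLE U ⊤ hw a) + (je k).appTop (δ a) * E k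
    map_one' := by
      have h1 : δ 1 = 0 := by
        have h2 := hδ 1 1
        have h3 : w.appLE U ⊤ hw 1 = 1 := map_one (w.appLE U ⊤ hw).hom
        rw [mul_one, h3, _root_.one_mul] at h2
        exact left_eq_add.1 h2
      rw [h1, map_one, map_one, map_zero, zero_mul, add_zero]
    map_mul' := fun a b => by
      rw [hδ, map_mul, map_mul, map_add, map_mul, map_mul]
      have := E_mul_E (k := k)
      linear_combination (-(je k).appTop (δ a) * (je k).appTop (δ b)) * this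
    map_zero' := by
      rw [map_zero, map_zero, map_zero, map_zero, zero_mul, add_zero]
    map_add' := fun a b => by
      rw [map_add, map_add, map_add, map_add]
      ring }

/-- The ring map `a ↦ a(w) + δ(a) ε`. -/
noncomputable def phi : Γ(X, U) ⟶ Γ(Te k, ⊤) := CommRingCat.ofHom (phiR w hw δ hδ)

theorem phi_apply (a : Γ(X, U)) : phi w hw δ hδ a =
    (je k).appTop (w.appLE U ⊤ hw a) + (je k).appTop (δ a) * E k := rfl

theorem ze_je_app (c : Γ(Spec (CommRingCat.of k), ⊤)) : (ze k).appTop ((je k).appTop c) = c := by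
  have h1 : (je k).appTop ≫ (ze k).appTop = 𝟙 _ := by
    rw [← Scheme.Hom.comp_appTop, ze_je, Scheme.Hom.id_appTop]
  exact congr($h1 c)

theorem comp_appLE_top {T' T : Scheme.{u}} (j : T' ⟶ T) (r : T ⟶ X) (h : ⊤ ≤ r ⁻¹ᵁ U)
    (h' : ⊤ ≤ (j ≫ r) ⁻¹ᵁ U) (a : Γ(X, U)) :
    (j ≫ r).appLE U ⊤ h' a = j.appTop (r.appLE U ⊤ h a) := by
  have h1 := Scheme.Hom.appLE_comp_appLE j r U ⊤ ⊤ h le_top
  have h2 : j.appLE ⊤ ⊤ (show ⊤ ≤ j ⁻¹ᵁ ⊤ from le_top) = j.appTop := j.appLE_eq_app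
  rw [← h2]
  exact congr($h1 a).symm

theorem appLE_comp {Y T : Scheme.{u}} (π : X ⟶ Y) {W : Y.Opens} (eW : U ≤ π ⁻¹ᵁ W) (r : T ⟶ X)
    (h : ⊤ ≤ r ⁻¹ᵁ U) (h' : ⊤ ≤ (r ≫ π) ⁻¹ᵁ W) (c : Γ(Y, W)) :
    (r ≫ π).appLE W ⊤ h' c = r.appLE U ⊤ h (π.appLE W U eW c) := by
  have h1 := Scheme.Hom.appLE_comp_appLE r π W U ⊤ eW h
  exact congr($h1 c).symm

include hδ in
/-- **The tangent vector attached to a derivation.** -/
theorem exists_tangent (hU : IsAffineOpen U) {Y : Scheme.{u}} (π : X ⟶ Y) {W : Y.Opens}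
    (hW : IsAffineOpen W) (eW : U ≤ π ⁻¹ᵁ W) (h0 : ∀ c, δ (π.appLE W U eW c) = 0) :
    ∃ v : Te k ⟶ X, ze k ≫ v = w ∧ v ≫ π = je k ≫ w ≫ π ∧ ∃ h : ⊤ ≤ v ⁻¹ᵁ U, ∀ a,
      v.appLE U ⊤ h a = (je k).appTop (w.appLE U ⊤ hw a) + (je k).appTop (δ a) * E k := by
  have hv := ofRing_le hU (phi w hw δ hδ)
  have hv' : ∀ a, (ofRing hU (phi w hw δ hδ)).appLE U ⊤ hv a =
    (je k).appTop (w.appLE U ⊤ hw a) + (je k).appTop (δ a) * E k := fun a => by
      rw [ofRing_appLE]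
      rfl
  refine ⟨ofRing hU (phi w hw δ hδ), ?_, ?_, hv, hv'⟩
  · refine ext_appLE hU (fun x _ => hv trivial) hw fun a => ?_
    rw [comp_appLE_top _ _ hv, hv', map_add, map_mul, ze_E, mul_zero, add_zero, ze_je_app]
  · have h1 : (⊤ : (Te k).Opens) ≤ (ofRing hU (phi w hw δ hδ) ≫ π) ⁻¹ᵁ W := fun x _ => eW (hv trivial)
    have h2 : (⊤ : (Te k).Opens) ≤ (je k ≫ w ≫ π) ⁻¹ᵁ W := fun x _ => eW (hw trivial)
    have h3 : (⊤ : (Spec (CommRingCat.of k)).Opens) ≤ (w ≫ π) ⁻¹ᵁ W := fun x _ => eW (hw trivial)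
    refine ext_appLE hW h1 h2 fun c => ?_
    rw [appLE_comp π eW _ hv, hv', h0, map_zero, zero_mul, add_zero, comp_appLE_top _ _ h3,
      appLE_comp π eW _ hw]

end Phi

/-! ### The closed immersion `Spec k ⟶ Spec k[ε]` -/

instance : IsClosedImmersion (ze k) :=
  IsClosedImmersion.spec_of_surjective _ (fun x => ⟨TrivSqZeroExt.inl x, rfl⟩)

theorem ze_sq (a b : Γ(Te k, ⊤)) (ha : (ze k).appTop a = 0) (hb : (ze k).appTop b = 0) : a * b = 0 := by
  have hs : ∀ c : Γ(Te k, ⊤), ∃ c₀ : DualNumber k,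
      (Scheme.ΓSpecIso (CommRingCat.of (DualNumber k))).inv c₀ = c :=
    fun c => ⟨(Scheme.ΓSpecIso (CommRingCat.of (DualNumber k))).hom c,
      congr($((Scheme.ΓSpecIso (CommRingCat.of (DualNumber k))).hom_inv_id) c)⟩
  have key : ∀ c₀ : DualNumber k, (ze k).appTop ((Scheme.ΓSpecIso (CommRingCat.of (DualNumber k))).inv c₀) = 0 →
      TrivSqZeroExt.fst c₀ = 0 := by
    intro c₀ h
    have h1 := congr($(Scheme.ΓSpecIso_inv_naturality (CommRingCat.ofHom (TrivSqZeroExt.fstHom k k k).toRingHom)) c₀)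
    have h2 : (Scheme.ΓSpecIso (CommRingCat.of k)).inv (TrivSqZeroExt.fst c₀) = 0 := h1.trans h
    have h3 := congrArg (Scheme.ΓSpecIso (CommRingCat.of k)).hom h2
    rw [map_zero] at h3
    exact (congr($((Scheme.ΓSpecIso (CommRingCat.of k)).inv_hom_id) (TrivSqZeroExt.fst c₀))).symm.trans h3
  obtain ⟨a, rfl⟩ := hs a
  obtain ⟨b, rfl⟩ := hs b
  have h1 := key a ha
  have h2 := key b hb
  rw [← map_mul]
  have : a * b = 0 := by
    ext
    · rw [TrivSqZeroExt.fst_mul, h1, zero_mul]; rfl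
    · rw [TrivSqZeroExt.snd_mul, h1, h2]
      simp
  rw [this, map_zero]

instance : Surjective (ze k) := by
  have h1 : ∀ x : PrimeSpectrum (TrivSqZeroExt k k), x ∈ Set.range
      (PrimeSpectrum.comap (TrivSqZeroExt.fstHom k k k).toRingHom) := by
    intro x
    rw [range_comap_of_surjective _ _ (TrivSqZeroExt.fst_surjective)]
    rw [PrimeSpectrum.mem_zeroLocus]
    intro a ha
    have h2 : a.fst = 0 := ha
    have h3 : IsNilpotent a := by
      rw [TrivSqZeroExt.isNilpotent_iff_isNilpotent_fst, h2]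
      exact IsNilpotent.zero
    exact nilpotent_iff_mem_prime.1 h3 x.asIdeal x.isPrime
  exact ⟨fun x => h1 x⟩

end K925.Tan
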