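import Groth.Agent.AGF.K925.Lift
import Groth.Agent.AGF.K925.Tan

/-!
# The rational curve `t ↦ λ(t) · x` and vanishing of the sections of `f^* Ω`
-/

set_option autoImplicit false
universe u
open CategoryTheory MonoidalCategory CartesianMonoidalCategory MonObj GrpObj AlgebraicGeometry Limits
open OmegaSh

namespace K925.Curve

open Groth.Agent.Sga3B Groth.Agent.Sga3B.Parab K925.Fam K925.Cell K925.P1Glue K499.ActPts
open Groth.Agent.EtpbcA.P1Charts K925.Lift K925.DualD K925.Tan K925.PullOm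
open Groth.Agent.CohqB.ProjBC Groth.Agent.Dix.ProjProper

section Thick

variable (k : Type u) [Field k]

/-- `P¹` over the dual numbers. -/
noncomputable abbrev PE : Scheme.{u} := PP (CommRingCat.of (DualNumber k))

/-- The projection to `P¹`. -/
noncomputable def pp : PE k ⟶ CohB1.ProjSpace 1 k := mapBase 1 (je k) ≫ (projSpaceOverIso 1 k).hom

/-- The projection to `Spec k[ε]`. -/
noncomputable def qq : PE k ⟶ Te k := toB (CommRingCat.of (DualNumber k))

/-- The closed immersion. -/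
noncomputable def ii : CohB1.ProjSpace 1 k ⟶ PE k := (projSpaceOverIso 1 k).inv ≫ mapBase 1 (ze k)

theorem sq : IsPullback (pp k) (qq k) (CohB1.ProjSpace.toSpec 1 k) (je k) := by
  refine (isPullback_mapBase 1 (je k)).of_iso (Iso.refl _) (projSpaceOverIso 1 k) (Iso.refl _)
    (Iso.refl _) ?_ ?_ ?_ ?_
  · rw [pp, Iso.refl_hom, Category.id_comp]
  · rw [Iso.refl_hom, Iso.refl_hom, Category.id_comp, Category.comp_id]
    rfl
  · rw [Iso.refl_hom, Category.comp_id, projSpaceOverIso_hom_toSpec]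
  · rw [Iso.refl_hom, Iso.refl_hom, Category.id_comp, Category.comp_id]

theorem ii_qq : ii k ≫ qq k = CohB1.ProjSpace.toSpec 1 k ≫ ze k := by
  have h1 : mapBase 1 (ze k) ≫ qq k = CohB1.ProjSpaceOver.toBase 1 _ ≫ ze k := mapBase_toBase 1 (ze k)
  rw [ii, Category.assoc, h1, ← Category.assoc, projSpaceOverIso_inv_toBase]

theorem ze_mapBase : mapBase 1 (ze k) ≫ mapBase 1 (je k) = 𝟙 _ := by
  apply Groth.Agent.CycB.P1Chart.hom_ext
  · have e1 : mapBase 1 (je k) ≫ Groth.Agent.CycB.P1Chart.toZ (Spec (CommRingCat.of k)) =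
      Groth.Agent.CycB.P1Chart.toZ (Te k) := mapBase_toZ 1 _
    have e2 : mapBase 1 (ze k) ≫ Groth.Agent.CycB.P1Chart.toZ (Te k) =
      Groth.Agent.CycB.P1Chart.toZ (Spec (CommRingCat.of k)) := mapBase_toZ 1 _
    rw [Category.assoc, e1, e2, Category.id_comp]
  · rw [Category.assoc, mapBase_toBase, Category.id_comp]
    have h1 : mapBase 1 (ze k) ≫ CohB1.ProjSpaceOver.toBase 1 (Te k) = _ := mapBase_toBase 1 (ze k)
    rw [← Category.assoc, h1, Category.assoc, ze_je, Category.comp_id]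

theorem ii_pp : ii k ≫ pp k = 𝟙 _ := by
  rw [ii, pp, Category.assoc, ← Category.assoc (mapBase 1 (ze k)), ze_mapBase, Category.id_comp,
    Iso.inv_hom_id]

theorem surj_ii : Function.Surjective (ii k) := by
  have h1 : IsPullback (mapBase 1 (ze k)) (CohB1.ProjSpaceOver.toBase 1 _)
    (CohB1.ProjSpaceOver.toBase 1 _) (ze k) := isPullback_mapBase 1 (ze k)
  have h2 : Surjective (mapBase 1 (ze k)) :=
    MorphismProperty.of_isPullback (P := @Surjective) h1.flip inferInstance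
  have h3 : Surjective (ii k) := by
    unfold ii
    infer_instance
  exact h3.surj

variable {k}

theorem zt_ii (t : k) : zt t ≫ ii k = ze k ≫ zp (algebraMap k (DualNumber k) t) := by
  have h1 := map_zp (TrivSqZeroExt.fstHom k k k).toRingHom (algebraMap k (DualNumber k) t)
  have h2 : (TrivSqZeroExt.fstHom k k k).toRingHom (algebraMap k (DualNumber k) t) = t := rfl
  rw [h2] at h1
  rw [zt, ii, Category.assoc, Iso.hom_inv_id_assoc]
  exact h1.symm

theorem zp_pp (t : k) : zp (algebraMap k (DualNumber k) t) ≫ pp k = je k ≫ zt t := by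
  have h1 := map_zp (algebraMap k (DualNumber k)) t
  rw [zt, pp, ← Category.assoc, ← Category.assoc]
  congr 1
  exact h1.symm

theorem zp_qq (t : DualNumber k) : zp t ≫ qq k = 𝟙 _ := zp_toB t

end Thick

instance compact_P1 {k : Type u} [Field k] : CompactSpace (CohB1.ProjSpace 1 k) :=
  QuasiCompact.compactSpace_of_compactSpace (CohB1.ProjSpace.toSpec 1 k)

instance noeth_P1 {k : Type u} [Field k] : IsLocallyNoetherian (CohB1.ProjSpace 1 k) :=
  LocallyOfFiniteType.isLocallyNoetherian (CohB1.ProjSpace.toSpec 1 k)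

section Main

variable {k : Type u} [Field k] [IsAlgClosed k] {G X : Over (Spec (CommRingCat.of k))}
  [GrpObj G] {a : AlgGrp.Action G X}
  {lam : Red.Gm (Spec (CommRingCat.of k)) ⟶ G} [IsMonHom lam]
  {o : Fin (1 + 1) → (𝟙_ (Over (Spec (CommRingCat.of k))) ⟶ X)}

theorem exists_F {x : Spec (CommRingCat.of k) ⟶ X.left} (hg : Good a lam o x)
    {C : Type u} [CommRing C] [Algebra k C] (e : Spec (CommRingCat.of k) ⟶ Spec (CommRingCat.of C))
    [IsClosedImmersion e]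
    (hsq : ∀ a b : Γ(Spec (CommRingCat.of C), ⊤), e.appTop a = 0 → e.appTop b = 0 → a * b = 0)
    (y : aff C (st k C) ⟶ X) (hy : e ≫ y.left = x) :
    ∃ F : PP (CommRingCat.of C) ⟶ X.left, F ≫ X.hom = toB (CommRingCat.of C) ≫ st k C ∧
      zp (0 : C) ≫ F = (toUnit (aff C (st k C)) ≫ o 0).left ∧
      ∀ t : kˣ, zp (algebraMap k C t) ≫ F = (y ≫ tr a (tpt t ≫ lam)).left := by
  obtain ⟨g₁, h₁, e₁⟩ := hg.lift0 C e hsq y hy
  obtain ⟨g₂, h₂, e₂⟩ := hg.lift1 C e hsq y hy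
  exact exists_family_eval o hg.fix h₁ h₂ e₁ e₂

theorem st_self : st k k = 𝟙 _ := Spec.map_id _

/-- **The curve** `t ↦ λ(t) · x`. -/
theorem exists_f {x : 𝟙_ (Over (Spec (CommRingCat.of k))) ⟶ X} (hg : Good a lam o x.left) :
    ∃ f : CohB1.ProjSpace 1 k ⟶ X.left, f ≫ X.hom = CohB1.ProjSpace.toSpec 1 k ∧
      ∀ t : kˣ, zt (t : k) ≫ f = x.left ≫ (tr a (tpt t ≫ lam)).left := by
  let x₀ : aff k (st k k) ⟶ X := Over.homMk x.left (by
    refine (Over.w x).trans ?_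
    exact (st_self (k := k)).symm)
  obtain ⟨F, hF1, -, hF2⟩ := exists_F hg (𝟙 (Spec (CommRingCat.of k))) (fun a b ha _ => by
    have h1 : a = 0 := by
      rw [Scheme.Hom.id_appTop] at ha
      exact ha
    rw [h1, zero_mul]) x₀ (Category.id_comp _)
  refine ⟨(projSpaceOverIso 1 k).inv ≫ F, ?_, fun t => ?_⟩
  · rw [Category.assoc, hF1, st_self, Category.comp_id]
    exact projSpaceOverIso_inv_toBase 1 k
  · rw [zt, Category.assoc, Iso.hom_inv_id_assoc]
    exact hF2 t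

omit [IsAlgClosed k] [IsMonHom lam] in
theorem tr_comp {XQ : Over (Spec (CommRingCat.of k))} {aQ : AlgGrp.Action G XQ} (π : X ⟶ XQ)
    (hπ : a.act ≫ π = (G ◁ π) ≫ aQ.act) (σ : 𝟙_ (Over (Spec (CommRingCat.of k))) ⟶ G) :
    tr a σ ≫ π = π ≫ tr aQ σ := by
  rw [comp_tr, tr, Category.assoc, hπ, ← Category.assoc, lift_whiskerLeft, Category.id_comp]

/-- **Vanishing of the global sections of `f^* Ω`.** -/
theorem sections_eq_zero {x : 𝟙_ (Over (Spec (CommRingCat.of k))) ⟶ X} (hg : Good a lam o x.left)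
    [IsSeparated X.hom] [LocallyOfFiniteType X.hom] {f : CohB1.ProjSpace 1 k ⟶ X.left}
    (hfX : f ≫ X.hom = CohB1.ProjSpace.toSpec 1 k)
    (hft : ∀ t : kˣ, zt (t : k) ≫ f = x.left ≫ (tr a (tpt t ≫ lam)).left)
    {XQ : Over (Spec (CommRingCat.of k))} {aQ : AlgGrp.Action G XQ} (π : X ⟶ XQ)
    (hπ : a.act ≫ π = (G ◁ π) ≫ aQ.act) [Smooth π.left] {Ω : X.left.Modules} {d : Der π.left Ω}
    (hd : IsUniversal d) (s : Γ((Scheme.Modules.pullback f).obj Ω, ⊤)) : s = 0 := by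
  refine eq_zero_of_derivations hd f {z | ∃ t : kˣ, z = zt (t : k)} ?_ s ?_
  · intro V g h
    exact eq_zero_of_zt V g fun t ht => h _ ⟨t, rfl⟩ ht
  rintro z ⟨t, rfl⟩ U W hU hW eW hz δ hδ hδ0
  obtain ⟨v, hv0, hvπ, hvU, hvδ⟩ := exists_tangent (zt (t : k) ≫ f) hz δ hδ hU π.left hW eW hδ0
  have hvX : v ≫ X.hom = je k := by
    rw [← Over.w π, ← Category.assoc, hvπ, Category.assoc, Category.assoc, Category.assoc, Over.w π,
      hfX, zt_toSpec, Category.comp_id]
  let V : aff (DualNumber k) (st k (DualNumber k)) ⟶ X := Over.homMk v hvX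
  let y : aff (DualNumber k) (st k (DualNumber k)) ⟶ X := V ≫ tr a (tpt t ≫ lam)⁻¹
  have hinv : zt (t : k) ≫ f ≫ (tr a (tpt t ≫ lam)⁻¹).left = x.left := by
    rw [← Category.assoc, hft, Category.assoc, ← Over.comp_left, tr_tr_inv, Over.id_left,
      Category.comp_id]
  have hy : ze k ≫ y.left = x.left := by
    change ze k ≫ v ≫ (tr a (tpt t ≫ lam)⁻¹).left = _
    rw [← Category.assoc, hv0, Category.assoc, hinv]
  obtain ⟨F, hF1, hF0, hFt⟩ := exists_F hg (ze k) ze_sq y hy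
  have hif : ii k ≫ F = f := by
    refine hom_ext_zt X.hom ?_ hfX fun r => ?_
    · rw [Category.assoc, hF1, ii, Category.assoc]
      have h1 : mapBase 1 (ze k) ≫ toB (CommRingCat.of (DualNumber k)) =
        CohB1.ProjSpaceOver.toBase 1 _ ≫ ze k := mapBase_toBase 1 (ze k)
      have h2 : mapBase 1 (ze k) ≫ toB (CommRingCat.of (DualNumber k)) ≫ st k (DualNumber k) =
        CohB1.ProjSpaceOver.toBase 1 _ := by
          rw [← Category.assoc, h1, Category.assoc]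
          exact (congrArg (_ ≫ ·) ze_je).trans (Category.comp_id _)
      rw [h2, projSpaceOverIso_inv_toBase]
    · rw [← Category.assoc, zt_ii, Category.assoc, hFt, Over.comp_left, ← Category.assoc, hy, hft]
  have hyπ : y.left ≫ π.left = je k ≫ x.left ≫ π.left := by
    have h1 : y ≫ π = V ≫ π ≫ tr aQ (tpt t ≫ lam)⁻¹ := by
      rw [Category.assoc, tr_comp π hπ]
    have h2 := congr(($h1).left)
    refine h2.trans ?_
    change v ≫ π.left ≫ (tr aQ (tpt t ≫ lam)⁻¹).left = _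
    rw [← Category.assoc, hvπ, Category.assoc, Category.assoc, Category.assoc]
    have h3 : π.left ≫ (tr aQ (tpt t ≫ lam)⁻¹).left = (tr a (tpt t ≫ lam)⁻¹).left ≫ π.left := by
      rw [← Over.comp_left, ← Over.comp_left, tr_comp π hπ]
    rw [h3]
    conv_rhs => rw [← hinv]
    simp only [Category.assoc]
  -- values of the coefficient
  have hzF : ∀ r : kˣ, (zp (algebraMap k (DualNumber k) r) ≫ F) ≫ π.left =
      je k ≫ (zt (r : k) ≫ f) ≫ π.left := by
    intro r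
    rw [hFt, hft, Over.comp_left, Category.assoc, Category.assoc]
    have h3 : (tr a (tpt r ≫ lam)).left ≫ π.left = π.left ≫ (tr aQ (tpt r ≫ lam)).left := by
      rw [← Over.comp_left, ← Over.comp_left, tr_comp π hπ]
    rw [h3, ← Category.assoc, hyπ]
    simp only [Category.assoc]
  have hs := surj_ii k
  have h0 : ∀ (V : XQ.left.Opens) (c : Γ(XQ.left, V)),
      coeff (sq k) (ii_qq k) (ii_pp k) hif hs (π.left ⁻¹ᵁ V) (π.left.app V c) = 0 := by
    intro V c
    refine eq_zero_of_zt _ _ fun r hr => ?_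
    have hr' : (⊤ : (Te k).Opens) ≤ (zp (algebraMap k (DualNumber k) r) ≫ F) ⁻¹ᵁ (π.left ⁻¹ᵁ V) := by
      rw [← Scheme.Hom.comp_preimage, hzF]
      exact fun x _ => hr trivial
    have h1 := eval_coeff (sq k) (ii_qq k) (ii_pp k) hif hs (zt (r : k)) _ (zp_pp (r : k)) (zp_qq _)
      (π.left ⁻¹ᵁ V) hr hr' (π.left.app V c)
    have hr1 : (⊤ : (Te k).Opens) ≤ ((zp (algebraMap k (DualNumber k) r) ≫ F) ≫ π.left) ⁻¹ᵁ V := hr'
    have hr2 : (⊤ : (Spec (CommRingCat.of k)).Opens) ≤ ((zt (r : k) ≫ f) ≫ π.left) ⁻¹ᵁ V := hr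
    have hr3 : (⊤ : (Te k).Opens) ≤ (je k ≫ (zt (r : k) ≫ f) ≫ π.left) ⁻¹ᵁ V := fun x _ => hr trivial
    have h2 : (zp (algebraMap k (DualNumber k) r) ≫ F).appLE (π.left ⁻¹ᵁ V) ⊤ hr' (π.left.app V c) =
        (je k).appTop (((zt (r : k) ≫ f) ≫ π.left).appLE V ⊤ hr2 c) := by
      have e1 : π.left.app V c = π.left.appLE V (π.left ⁻¹ᵁ V) le_rfl c := by
        rw [Scheme.Hom.appLE_eq_app]
      rw [e1, ← appLE_comp π.left le_rfl _ hr' hr1, ← comp_appLE_top _ _ hr2 hr3]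
      have e2 : ∀ (r₁ r₂ : Te k ⟶ XQ.left) (_ : r₁ = r₂) (h₁ : ⊤ ≤ r₁ ⁻¹ᵁ V) (h₂ : ⊤ ≤ r₂ ⁻¹ᵁ V),
        r₁.appLE V ⊤ h₁ c = r₂.appLE V ⊤ h₂ c := by
          rintro r₁ _ rfl _ _
          rfl
      exact e2 _ _ (hzF r) _ _
    exact dual_zero (h2.symm.trans h1)
  refine ⟨der (sq k) (ii_qq k) (ii_pp k) hif hs π.left h0, fun b => ?_, ?_⟩
  · -- the value at `t`
    rw [dv_der]
    have hvF : zp (algebraMap k (DualNumber k) t) ≫ F = v := by
      rw [hFt]
      change ((V ≫ tr a (tpt t ≫ lam)⁻¹) ≫ tr a (tpt t ≫ lam)).left = v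
      rw [Category.assoc, tr_inv_tr, Category.comp_id]
      rfl
    have hr' : (⊤ : (Te k).Opens) ≤ (zp (algebraMap k (DualNumber k) t) ≫ F) ⁻¹ᵁ U := by
      rw [hvF]
      exact hvU
    have h1 := eval_coeff (sq k) (ii_qq k) (ii_pp k) hif hs (zt (t : k)) _ (zp_pp (t : k)) (zp_qq _)
      U hz hr' b
    have h2 : (zp (algebraMap k (DualNumber k) t) ≫ F).appLE U ⊤ hr' b = v.appLE U ⊤ hvU b := by
      have e2 : ∀ (r₁ r₂ : Te k ⟶ X.left) (_ : r₁ = r₂) (h₁ : ⊤ ≤ r₁ ⁻¹ᵁ U) (h₂ : ⊤ ≤ r₂ ⁻¹ᵁ U),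
        r₁.appLE U ⊤ h₁ b = r₂.appLE U ⊤ h₂ b := by
          rintro r₁ _ rfl _ _
          rfl
      exact e2 _ _ hvF _ _
    rw [h2, hvδ] at h1
    exact (dual_inj h1).symm
  · -- the value at `0`
    refine pr_top_eq_zero hd f _ (zt (0 : k)) (fun g hg => eq_zero_of_top (zt 0) g hg) ?_ s
    intro U' h' b
    rw [dv_der]
    have hF0' : zp (algebraMap k (DualNumber k) 0) ≫ F = je k ≫ (o 0).left := by
      rw [map_zero, hF0]
      have h2 : (toUnit (aff (DualNumber k) (st k (DualNumber k)))).left = je k := by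
        have := Over.w (toUnit (aff (DualNumber k) (st k (DualNumber k))))
        exact (Category.comp_id _).symm.trans this
      rw [Over.comp_left, h2]
    have hf0 : zt (0 : k) ≫ f = (o 0).left := by
      have h1 : ze k ≫ zp (algebraMap k (DualNumber k) 0) ≫ F = zt (0 : k) ≫ f := by
        rw [← hif, ← Category.assoc, ← Category.assoc, zt_ii]
      rw [← h1, hF0', ← Category.assoc, ze_je, Category.id_comp]
    have hr0 : (⊤ : (Spec (CommRingCat.of k)).Opens) ≤ (o 0).left ⁻¹ᵁ U' := by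
      rw [← hf0]
      exact h'
    have hr1 : (⊤ : (Te k).Opens) ≤ (je k ≫ (o 0).left) ⁻¹ᵁ U' := fun x _ => hr0 trivial
    have hr' : (⊤ : (Te k).Opens) ≤ (zp (algebraMap k (DualNumber k) 0) ≫ F) ⁻¹ᵁ U' := by
      rw [hF0']
      exact hr1
    have h1 := eval_coeff (sq k) (ii_qq k) (ii_pp k) hif hs (zt (0 : k)) _ (zp_pp (0 : k)) (zp_qq _)
      U' h' hr' b
    have h2 : (zp (algebraMap k (DualNumber k) 0) ≫ F).appLE U' ⊤ hr' b =
        (je k).appTop ((o 0).left.appLE U' ⊤ hr0 b) := by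
      have e2 : ∀ (r₁ r₂ : Te k ⟶ X.left) (_ : r₁ = r₂) (h₁ : ⊤ ≤ r₁ ⁻¹ᵁ U') (h₂ : ⊤ ≤ r₂ ⁻¹ᵁ U'),
        r₁.appLE U' ⊤ h₁ b = r₂.appLE U' ⊤ h₂ b := by
          rintro r₁ _ rfl _ _
          rfl
      rw [e2 _ _ hF0' hr' hr1, comp_appLE_top _ _ hr0]
    exact dual_zero (h2.symm.trans h1)

end Main

end K925.Curve
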