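import Groth.Agent.OmegaSh.K583.UnivAffine
import Groth.Agent.CohqA.PullbackQCoh
import Mathlib.AlgebraicGeometry.Morphisms.Smooth
import Mathlib.LinearAlgebra.Dual.Lemmas

/-!
# Sections of a pull-back of the sheaf of differentials

`π : X ⟶ Y` smooth with universal derivation `d : O_X → Ω`, `f : Z ⟶ X`.  A derivation
`D : O_X → f_* O_Z` over `Y` gives a pairing `f^* Ω → O_Z`; a global section of `f^* Ω` is zero if it
pairs to zero with enough derivations.
-/

set_option autoImplicit false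
universe u

open CategoryTheory CategoryTheory.Limits AlgebraicGeometry TopologicalSpace Opposite OmegaSh

namespace K925.PullOm

open K583.DerAffine K583.DerFunct K583.UnivAffine K583.AlgUniv
open Groth.Agent.CohqA.BaseChangeMod Groth.Agent.CohqA.PullbackSections
open Groth.Agent.CohqA.PullbackQCoh Groth.Agent.CohqA.PullbackAffine

section alg

/-- The target of a base change map is spanned by the image. -/
theorem span_of_isBC {A B : Type u} [CommRing A] [CommRing B] {φ : A →+* B} {M N : Type u}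
    [AddCommGroup M] [Module A M] [AddCommGroup N] [Module B N] {f : M →+ N} (h : IsBC φ f)
    {t : Set M} (ht : Submodule.span A t = ⊤) : Submodule.span B (f '' t) = ⊤ := by
  have h1 : ∀ x : M, f x ∈ Submodule.span B (f '' t) := by
    intro x
    have hx : x ∈ Submodule.span A t := ht ▸ trivial
    induction hx using Submodule.span_induction with
    | mem y hy => exact Submodule.subset_span ⟨y, hy, rfl⟩
    | zero => rw [map_zero]; exact zero_mem _
    | add x y _ _ hx hy => rw [map_add]; exact add_mem hx hy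
    | smul a x _ hx => rw [h.map_smul]; exact Submodule.smul_mem _ _ hx
  have h2 : (Submodule.span B (f '' t)).mkQ = 0 := by
    apply h.hom_ext
    intro x
    rw [LinearMap.zero_apply, Submodule.mkQ_apply, Submodule.Quotient.mk_eq_zero]
    exact h1 x
  rw [← Submodule.ker_mkQ (Submodule.span B (f '' t)), h2, LinearMap.ker_zero]

theorem projective_of_isBC {A B : Type u} [CommRing A] [CommRing B] {φ : A →+* B} {M N : Type u}
    [AddCommGroup M] [Module A M] [AddCommGroup N] [Module B N] {f : M →+ N} (h : IsBC φ f)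
    [Module.Projective A M] : Module.Projective B N := by
  let _ := φ.toAlgebra
  let _ : Module A N := Module.compHom N φ
  have : IsScalarTower A B N := ⟨fun a b c => by
      change (φ a * b) • c = φ a • b • c
      rw [mul_smul]⟩
  have h' : IsBaseChange B ({ toFun := f, map_add' := f.map_add, map_smul' := h.map_smul } : M →ₗ[A] N) :=
    (isBC_iff_isBaseChange _).1 h
  exact Module.Projective.of_equiv h'.equiv

end alg

variable {X Y Z : Scheme.{u}} {π : X ⟶ Y} {Ω : X.Modules} {d : Der π Ω} (hd : IsUniversal d)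
  (f : Z ⟶ X) (D : Der π ((Scheme.Modules.pushforward f).obj (Coh.structureModule Z)))

/-- The values of a derivation with values in functions on `Z`. -/
noncomputable def dv (U : X.Opens) : Γ(X, U) →+ Γ(Z, f ⁻¹ᵁ U) where
  toFun a := fnSect Z (f ⁻¹ᵁ U) (D.app U a)
  map_zero' := by rw [map_zero]; rfl
  map_add' a b := by rw [map_add]; rfl

/-- The pairing `f^* Ω → O_Z` given by a derivation `O_X → f_* O_Z`. -/
noncomputable def beta : (Scheme.Modules.pullback f).obj Ω ⟶ Coh.structureModule Z :=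
  adj f (univLift hd D)

/-- The pairing on sections. -/
noncomputable def pr (V : Z.Opens) :
    Γ((Scheme.Modules.pullback f).obj Ω, V) →ₗ[Γ(Z, V)] Γ(Z, V) where
  toFun m := fnSect Z V ((beta hd f D).app V m)
  map_add' a b := by rw [map_add, map_add]
  map_smul' r m := Scheme.Modules.Hom.app_smul (beta hd f D) r m

theorem pr_res {V V' : Z.Opens} (h : V' ≤ V) (m : Γ((Scheme.Modules.pullback f).obj Ω, V)) :
    pr hd f D V' (((Scheme.Modules.pullback f).obj Ω).presheaf.map (homOfLE h).op m) =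
      Z.presheaf.map (homOfLE h).op (pr hd f D V m) :=
  app_map (beta hd f D) h m

theorem pr_pbSec {U : X.Opens} {V : Z.Opens} (e : V ≤ f ⁻¹ᵁ U) (a : Γ(X, U)) :
    pr hd f D V (pbSec f Ω U V e (d.app U a)) = Z.presheaf.map (homOfLE e).op (dv f D U a) := by
  have h1 : pbSec f Ω U V e (d.app U a) =
      ((Scheme.Modules.pullback f).obj Ω).presheaf.map (homOfLE e).op
        (pullSect f Ω U (d.app U a)) := rfl
  rw [h1, pr_res]
  congr 1
  change fnSect Z _ ((beta hd f D).app (f ⁻¹ᵁ U) (pullSect f Ω U (d.app U a))) = _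
  unfold beta
  rw [adj_pullSect, univLift_app]
  rfl

include hd in
/-- `Γ(f^* Ω, V)` is spanned by the pull-backs of differentials. -/
theorem span_pbSec {U : X.Opens} (hU : IsAffineOpen U) {W : Y.Opens} (hW : IsAffineOpen W)
    (eW : U ≤ π ⁻¹ᵁ W) {V : Z.Opens} (hV : IsAffineOpen V) (e : V ≤ f ⁻¹ᵁ U) :
    Submodule.span Γ(Z, V) (Set.range fun a : Γ(X, U) => pbSec f Ω U V e (d.app U a)) = ⊤ := by
  have h1 := (isAlgUniv_app hd hU hW eW).span_eq_top
  have : Ω.IsQuasicoherent := isQuasicoherent_of_isUniversal hd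
  have h2 := span_of_isBC (isBC_pbSec f Ω hU hV e) h1
  rw [← Set.range_comp] at h2
  exact h2

include hd in
/-- `Γ(f^* Ω, V)` is projective for `π` smooth. -/
theorem projective_pb [Smooth π] {U : X.Opens} (hU : IsAffineOpen U) {W : Y.Opens}
    (hW : IsAffineOpen W) (eW : U ≤ π ⁻¹ᵁ W) {V : Z.Opens} (hV : IsAffineOpen V)
    (e : V ≤ f ⁻¹ᵁ U) : Module.Projective Γ(Z, V) Γ((Scheme.Modules.pullback f).obj Ω, V) := by
  let _ : Algebra Γ(Y, W) Γ(X, U) := (π.appLE W U eW).hom.toAlgebra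
  obtain ⟨ε, -⟩ := exists_kaehler_equiv hd hU hW eW rfl
  have hs : (π.appLE W U eW).hom.Smooth := π.smooth_appLE hW hU eW
  have hs' : Algebra.Smooth Γ(Y, W) Γ(X, U) := hs
  have h1 : Module.Projective Γ(X, U) Γ(Ω, U) := Module.Projective.of_equiv ε
  have : Ω.IsQuasicoherent := isQuasicoherent_of_isUniversal hd
  exact projective_of_isBC (isBC_pbSec f Ω hU hV e)

/-- Affine opens adapted to `Z ⟶ X ⟶ Y`. -/
theorem exists_affine_triple (π : X ⟶ Y) (f : Z ⟶ X) (z : Z) :
    ∃ (U : X.Opens) (V : Z.Opens) (W : Y.Opens), IsAffineOpen U ∧ IsAffineOpen V ∧ IsAffineOpen W ∧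
      U ≤ π ⁻¹ᵁ W ∧ V ≤ f ⁻¹ᵁ U ∧ z ∈ V := by
  obtain ⟨_, ⟨W, hW, rfl⟩, hyW, -⟩ := Y.isBasis_affineOpens.exists_subset_of_mem_open
    (Set.mem_univ (π (f z))) isOpen_univ
  obtain ⟨_, ⟨U, hU, rfl⟩, hxU, hUW⟩ := X.isBasis_affineOpens.exists_subset_of_mem_open
    (show f z ∈ (π ⁻¹ᵁ W : Set X) from hyW) (π ⁻¹ᵁ W).isOpen
  obtain ⟨_, ⟨V, hV, rfl⟩, hzV, hVU⟩ := Z.isBasis_affineOpens.exists_subset_of_mem_open
    (show z ∈ (f ⁻¹ᵁ U : Set Z) from hxU) (f ⁻¹ᵁ U).isOpen
  exact ⟨U, V, W, hU, hV, hW, hUW, hVU, hzV⟩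

theorem appLE_res {T : Scheme.{u}} (z : T ⟶ Z) {V V' : Z.Opens} (h : V' ≤ V) (h' : ⊤ ≤ z ⁻¹ᵁ V')
    (g : Γ(Z, V)) : z.appLE V' ⊤ h' (Z.presheaf.map (homOfLE h).op g) =
      z.appLE V ⊤ (h'.trans (z.preimage_mono h)) g := by
  have := Scheme.Hom.map_appLE z h' (homOfLE h).op
  exact congr($this g)

/-- If all the derivatives vanish at a point and functions on `Z` are determined by their value at
that point then global sections pair to zero. -/
theorem pr_top_eq_zero [Smooth π] {T : Scheme.{u}} [Subsingleton T] [Nonempty T] (z₀ : T ⟶ Z)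
    (hinj : ∀ g : Γ(Z, ⊤), z₀.appTop g = 0 → g = 0)
    (h0 : ∀ (U : X.Opens) (h : ⊤ ≤ z₀ ⁻¹ᵁ (f ⁻¹ᵁ U)) (a : Γ(X, U)),
      z₀.appLE (f ⁻¹ᵁ U) ⊤ h (dv f D U a) = 0)
    (s : Γ((Scheme.Modules.pullback f).obj Ω, ⊤)) : pr hd f D ⊤ s = 0 := by
  apply hinj
  obtain ⟨t⟩ := ‹Nonempty T›
  obtain ⟨U, V, W, hU, hV, hW, eW, e, hz⟩ := exists_affine_triple π f (z₀ t)
  have hV' : ⊤ ≤ z₀ ⁻¹ᵁ V := fun t' _ => by
    rw [Subsingleton.elim t' t]
    exact hz
  have key : ∀ m : Γ((Scheme.Modules.pullback f).obj Ω, V), z₀.appLE V ⊤ hV' (pr hd f D V m) = 0 := by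
    intro m
    have hm : m ∈ Submodule.span Γ(Z, V) (Set.range fun a : Γ(X, U) =>
        pbSec f Ω U V e (d.app U a)) := by
      rw [span_pbSec hd f hU hW eW hV e]
      trivial
    induction hm using Submodule.span_induction with
    | mem y hy =>
      obtain ⟨a, rfl⟩ := hy
      rw [pr_pbSec, appLE_res]
      exact h0 _ _ _
    | zero => rw [map_zero, map_zero]
    | add x y _ _ hx hy => rw [map_add, map_add, hx, hy, add_zero]
    | smul a x _ hx => rw [map_smul, smul_eq_mul, map_mul, hx, mul_zero]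
  have h1 := key (((Scheme.Modules.pullback f).obj Ω).presheaf.map (homOfLE le_top).op s)
  rw [pr_res, appLE_res] at h1
  have h2 : z₀.appLE ⊤ ⊤ (show ⊤ ≤ z₀ ⁻¹ᵁ ⊤ from le_top) = z₀.appTop := z₀.appLE_eq_app
  rw [← h2]
  exact h1

/-- **Vanishing criterion** for global sections of `f^* Ω`. -/
theorem eq_zero_of_derivations [Smooth π] {T : Scheme.{u}} (P : Set (T ⟶ Z))
    (hP : ∀ (V : Z.Opens) (g : Γ(Z, V)), (∀ z ∈ P, ∀ h : ⊤ ≤ z ⁻¹ᵁ V, z.appLE V ⊤ h g = 0) → g = 0)
    (s : Γ((Scheme.Modules.pullback f).obj Ω, ⊤))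
    (H : ∀ z ∈ P, ∀ (U : X.Opens) (W : Y.Opens) (_ : IsAffineOpen U) (_ : IsAffineOpen W)
      (eW : U ≤ π ⁻¹ᵁ W) (hz : ⊤ ≤ z ⁻¹ᵁ (f ⁻¹ᵁ U)) (δ : Γ(X, U) →+ Γ(T, ⊤)),
      (∀ a b, δ (a * b) = (z ≫ f).appLE U ⊤ hz a * δ b + (z ≫ f).appLE U ⊤ hz b * δ a) →
      (∀ c, δ (π.appLE W U eW c) = 0) →
      ∃ D : Der π ((Scheme.Modules.pushforward f).obj (Coh.structureModule Z)),
        (∀ a, z.appLE (f ⁻¹ᵁ U) ⊤ hz (dv f D U a) = δ a) ∧ pr hd f D ⊤ s = 0) : s = 0 := by
  apply eq_of_locally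
  intro x _
  obtain ⟨U, V, W, hU, hV, hW, eW, e, hx⟩ := exists_affine_triple π f x
  refine ⟨V, le_top, hx, ?_⟩
  rw [map_zero]
  have hproj := projective_pb hd f hU hW eW hV e
  rw [← Module.forall_dual_apply_eq_zero_iff Γ(Z, V)]
  intro φ
  apply hP V
  intro z hz h
  have hz' : ⊤ ≤ z ⁻¹ᵁ (f ⁻¹ᵁ U) := h.trans (z.preimage_mono e)
  have hcomp : ∀ a : Γ(X, U), z.appLE V ⊤ h (f.appLE U V e a) = (z ≫ f).appLE U ⊤ hz' a := by
    intro a
    have := Scheme.Hom.appLE_comp_appLE z f U V ⊤ e h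
    exact congr($this a)
  let δ : Γ(X, U) →+ Γ(T, ⊤) :=
    { toFun := fun a => z.appLE V ⊤ h (φ (pbSec f Ω U V e (d.app U a)))
      map_zero' := by rw [map_zero, map_zero, map_zero, map_zero]
      map_add' := fun a b => by rw [map_add, map_add, map_add, map_add] }
  have hδ : ∀ a, δ a = z.appLE V ⊤ h (φ (pbSec f Ω U V e (d.app U a))) := fun _ => rfl
  have hsm : ∀ (a : Γ(X, U)) (m : Γ(Ω, U)), pbSec f Ω U V e (a • m) =
      f.appLE U V e a • pbSec f Ω U V e m := fun a m => secMap_smul f (pbUnit f Ω) U V e a m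
  obtain ⟨D, hD, hD0⟩ := H z hz U W hU hW eW hz' δ
    (fun a b => by
      rw [hδ, app_mul, map_add, hsm, hsm, map_add, map_smul, map_smul, map_add, smul_eq_mul,
        smul_eq_mul, map_mul, map_mul, hcomp, hcomp]
      rfl)
    (fun c => by rw [hδ, app_appLE, map_zero, map_zero, map_zero])
  have key : ∀ m : Γ((Scheme.Modules.pullback f).obj Ω, V),
      z.appLE V ⊤ h (φ m) = z.appLE V ⊤ h (pr hd f D V m) := by
    intro m
    have hm : m ∈ Submodule.span Γ(Z, V) (Set.range fun a : Γ(X, U) =>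
        pbSec f Ω U V e (d.app U a)) := by
      rw [span_pbSec hd f hU hW eW hV e]
      trivial
    induction hm using Submodule.span_induction with
    | mem y hy =>
      obtain ⟨a, rfl⟩ := hy
      rw [pr_pbSec, appLE_res]
      exact (hD a).symm
    | zero => rw [map_zero, map_zero, map_zero, map_zero]
    | add x y _ _ hx hy => rw [map_add, map_add, map_add, map_add, hx, hy]
    | smul a x _ hx =>
      have e1 : φ (a • x) = a * φ x := φ.map_smul a x
      have e2 : pr hd f D V (a • x) = a * pr hd f D V x := (pr hd f D V).map_smul a x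
      rw [e1, e2, map_mul, map_mul, hx]
  rw [key, pr_res, hD0, map_zero, map_zero]

end K925.PullOm
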