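import Groth.Agent.AutSch.K936.DualX
import Groth.Agent.AGF.K925.PullOm

/-!
# Derivations from morphisms out of `Z × Spec k[ε]`

`F : Z × Spec k[ε] ⟶ X` with reduction `f : Z ⟶ X`: the coefficient of `ε` is a derivation
`O_X → f_* O_Z`, compatible with evaluation at points of `Z`.
-/

set_option autoImplicit false
universe u

open CategoryTheory CategoryTheory.Limits AlgebraicGeometry TopologicalSpace Opposite

namespace K925.DualD

open K936.DualX K925.PullOm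

variable {k : Type u} [Field k]

/-- The spectrum of the dual numbers. -/
noncomputable abbrev Te (k : Type u) [Field k] : Scheme.{u} := Spec (CommRingCat.of (DualNumber k))

/-- `Spec k[ε] ⟶ Spec k`. -/
noncomputable abbrev je (k : Type u) [Field k] : Te k ⟶ Spec (CommRingCat.of k) :=
  Spec.map (CommRingCat.ofHom (algebraMap k (DualNumber k)))

/-- `Spec k ⟶ Spec k[ε]`. -/
noncomputable abbrev ze (k : Type u) [Field k] : Spec (CommRingCat.of k) ⟶ Te k :=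
  Spec.map (CommRingCat.ofHom (TrivSqZeroExt.fstHom k k k).toRingHom)

/-- The function `ε` on `Spec k[ε]`. -/
noncomputable def E (k : Type u) [Field k] : Γ(Te k, ⊤) :=
  (Scheme.ΓSpecIso (CommRingCat.of (DualNumber k))).inv DualNumber.eps

theorem ze_je : ze k ≫ je k = 𝟙 _ := by
  rw [← Spec.map_comp, ← CommRingCat.ofHom_comp]
  have : (TrivSqZeroExt.fstHom k k k).toRingHom.comp (algebraMap k (DualNumber k)) = RingHom.id k := by
    ext x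
    rfl
  rw [this]
  exact Spec.map_id _

theorem ze_E : (ze k).appTop (E k) = 0 := by
  have h := Scheme.ΓSpecIso_inv_naturality (CommRingCat.ofHom (TrivSqZeroExt.fstHom k k k).toRingHom)
  have h1 := congr($h DualNumber.eps)
  refine h1.symm.trans ?_
  change (Scheme.ΓSpecIso (CommRingCat.of k)).inv (TrivSqZeroExt.fst (DualNumber.eps : DualNumber k)) = 0
  have h2 : TrivSqZeroExt.fst (DualNumber.eps : DualNumber k) = 0 := DualNumber.fst_eps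
  rw [h2, map_zero]

theorem je_appTop (a : k) : (je k).appTop ((Scheme.ΓSpecIso (CommRingCat.of k)).inv a) =
    (Scheme.ΓSpecIso (CommRingCat.of (DualNumber k))).inv (algebraMap k (DualNumber k) a) := by
  have h := Scheme.ΓSpecIso_inv_naturality (CommRingCat.ofHom (algebraMap k (DualNumber k)))
  exact congr($h a).symm

theorem dual_inj {a b a' b' : Γ(Spec (CommRingCat.of k), ⊤)}
    (h : (je k).appTop a + (je k).appTop b * E k = (je k).appTop a' + (je k).appTop b' * E k) :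
    b = b' := by
  have hs : ∀ c : Γ(Spec (CommRingCat.of k), ⊤), ∃ c₀ : k, (Scheme.ΓSpecIso (CommRingCat.of k)).inv c₀ = c :=
    fun c => ⟨(Scheme.ΓSpecIso (CommRingCat.of k)).hom c,
      congr($((Scheme.ΓSpecIso (CommRingCat.of k)).hom_inv_id) c)⟩
  obtain ⟨a, rfl⟩ := hs a
  obtain ⟨b, rfl⟩ := hs b
  obtain ⟨a', rfl⟩ := hs a'
  obtain ⟨b', rfl⟩ := hs b'
  rw [je_appTop, je_appTop, je_appTop, je_appTop, E, ← map_mul, ← map_mul, ← map_add, ← map_add] at h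
  have h1 := congrArg (Scheme.ΓSpecIso (CommRingCat.of (DualNumber k))).hom h
  have h2 : ∀ x : DualNumber k, (Scheme.ΓSpecIso (CommRingCat.of (DualNumber k))).hom
      ((Scheme.ΓSpecIso (CommRingCat.of (DualNumber k))).inv x) = x := fun x =>
      congr($((Scheme.ΓSpecIso (CommRingCat.of (DualNumber k))).inv_hom_id) x)
  rw [h2, h2] at h1
  have h3 := congrArg TrivSqZeroExt.snd h1
  have h4 : ∀ x y : k, TrivSqZeroExt.snd (algebraMap k (DualNumber k) x +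
      algebraMap k (DualNumber k) y * DualNumber.eps) = y := by
    intro x y
    simp [TrivSqZeroExt.algebraMap_eq_inl]
  rw [h4, h4] at h3
  rw [h3]

section Der

variable {X Y Z Ze : Scheme.{u}} {g : Z ⟶ Spec (CommRingCat.of k)} {p : Ze ⟶ Z}
  {q : Ze ⟶ Spec (CommRingCat.of (DualNumber k))} [CompactSpace Z] [IsLocallyNoetherian Z]
  (sq : IsPullback p q g (Spec.map (CommRingCat.ofHom (algebraMap k (DualNumber k)))))
  {F : Ze ⟶ X} {f : Z ⟶ X} {i : Z ⟶ Ze} (hi : i ≫ q = g ≫ ze k) (hip : i ≫ p = 𝟙 Z)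
  (hf : i ≫ F = f) (hs : Function.Surjective i)

omit [CompactSpace Z] [IsLocallyNoetherian Z] in
include hip hf hs in
theorem le_preimage (U : X.Opens) : p ⁻¹ᵁ (f ⁻¹ᵁ U) ≤ F ⁻¹ᵁ U := by
  intro y hy
  obtain ⟨z, rfl⟩ := hs y
  change F (i z) ∈ U
  have h1 : f (p (i z)) ∈ U := hy
  have h2 : p (i z) = z := by
    rw [← Scheme.Hom.comp_apply, hip]
    rfl
  rw [h2, ← hf, Scheme.Hom.comp_apply] at h1
  exact h1

omit [CompactSpace Z] [IsLocallyNoetherian Z] in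
theorem appLE_eps {T : Scheme.{u}} (τ : T ⟶ Ze) (V : Z.Opens) (O : T.Opens) (h : O ≤ τ ⁻¹ᵁ (p ⁻¹ᵁ V)) :
    τ.appLE (p ⁻¹ᵁ V) O h (eps p q V) = (τ ≫ q).appLE ⊤ O le_top (E k) := by
  have h1 : q.appLE ⊤ (p ⁻¹ᵁ V) le_top ≫ τ.appLE (p ⁻¹ᵁ V) O h = (τ ≫ q).appLE ⊤ O le_top :=
    Scheme.Hom.appLE_comp_appLE _ _ _ _ _ _ _
  exact congr($h1 ((Scheme.ΓSpecIso (CommRingCat.of (DualNumber k))).inv DualNumber.eps))

include sq hi hip hf in
theorem exists_coeff (U : X.Opens) (h : p ⁻¹ᵁ (f ⁻¹ᵁ U) ≤ F ⁻¹ᵁ U) (s : Γ(X, U)) :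
    ∃! t : Γ(Z, f ⁻¹ᵁ U), F.appLE U (p ⁻¹ᵁ (f ⁻¹ᵁ U)) h s =
      p.app (f ⁻¹ᵁ U) (f.app U s) + p.app (f ⁻¹ᵁ U) t * eps p q (f ⁻¹ᵁ U) := by
  obtain ⟨⟨a, b⟩, hab⟩ := (bijective sq (f ⁻¹ᵁ U)).2 (F.appLE U (p ⁻¹ᵁ (f ⁻¹ᵁ U)) h s)
  have hab' : p.app (f ⁻¹ᵁ U) a + p.app (f ⁻¹ᵁ U) b * eps p q (f ⁻¹ᵁ U) =
    F.appLE U (p ⁻¹ᵁ (f ⁻¹ᵁ U)) h s := hab
  have hle : f ⁻¹ᵁ U ≤ i ⁻¹ᵁ (p ⁻¹ᵁ (f ⁻¹ᵁ U)) := by
    intro z hz
    change p (i z) ∈ f ⁻¹ᵁ U
    rw [← Scheme.Hom.comp_apply, hip]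
    exact hz
  have h1 : a = f.app U s := by
    have h2 := congrArg (i.appLE (p ⁻¹ᵁ (f ⁻¹ᵁ U)) (f ⁻¹ᵁ U) hle) hab'
    have h3 : i.appLE (p ⁻¹ᵁ (f ⁻¹ᵁ U)) (f ⁻¹ᵁ U) hle (eps p q (f ⁻¹ᵁ U)) = 0 := by
      rw [appLE_eps]
      have h4 : (i ≫ q).appLE ⊤ (f ⁻¹ᵁ U) le_top = (ze k).appTop ≫ g.appLE ⊤ (f ⁻¹ᵁ U) le_top := by
        have h5 : ∀ (r : Z ⟶ Te k) (_ : r = g ≫ ze k), r.appLE ⊤ (f ⁻¹ᵁ U) le_top =
            (ze k).appTop ≫ g.appLE ⊤ (f ⁻¹ᵁ U) le_top := by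
          rintro r rfl
          rw [Scheme.Hom.comp_appLE]
          rfl
        exact h5 _ hi
      rw [h4]
      change g.appLE ⊤ (f ⁻¹ᵁ U) le_top ((ze k).appTop (E k)) = 0
      rw [ze_E, map_zero]
    rw [map_add, map_mul, h3, mul_zero, add_zero] at h2
    have h6 : p.app (f ⁻¹ᵁ U) ≫ i.appLE (p ⁻¹ᵁ (f ⁻¹ᵁ U)) (f ⁻¹ᵁ U) hle = 𝟙 _ := by
      have h7 : ∀ (r : Z ⟶ Z) (_ : r = 𝟙 Z) (h), r.appLE (f ⁻¹ᵁ U) (f ⁻¹ᵁ U) h = 𝟙 _ := by
        rintro r rfl h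
        exact (Scheme.Hom.appLE_eq_app (𝟙 Z)).trans (Scheme.Hom.id_app _)
      rw [← Scheme.Hom.comp_appLE]
      exact h7 _ hip _
    have h8 : F.appLE U (p ⁻¹ᵁ (f ⁻¹ᵁ U)) h ≫ i.appLE (p ⁻¹ᵁ (f ⁻¹ᵁ U)) (f ⁻¹ᵁ U) hle = f.app U := by
      have h7 : ∀ (r : Z ⟶ X) (_ : r = f) (h), r.appLE U (f ⁻¹ᵁ U) h = f.app U := by
        rintro r rfl h
        exact Scheme.Hom.appLE_eq_app _
      rw [Scheme.Hom.appLE_comp_appLE]
      exact h7 _ hf _
    exact (congr($h6 a)).symm.trans (h2.trans congr($h8 s))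
  subst h1
  refine ⟨b, hab'.symm, fun t ht => ?_⟩
  have h8 := (bijective sq (f ⁻¹ᵁ U)).1 (a₁ := (f.app U s, t)) (a₂ := (f.app U s, b))
    (ht.symm.trans hab'.symm)
  exact congrArg Prod.snd h8

include sq in
theorem coeff_unique (U : Z.Opens) {s t t' : Γ(Z, U)}
    (h : p.app U s + p.app U t * eps p q U = p.app U s + p.app U t' * eps p q U) : t = t' :=
  congrArg Prod.snd ((bijective sq U).1 (a₁ := (s, t)) (a₂ := (s, t')) h)

/-- The coefficient of `ε` in `F^♯ s`. -/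
noncomputable def coeff (U : X.Opens) (s : Γ(X, U)) : Γ(Z, f ⁻¹ᵁ U) :=
  (exists_coeff sq hi hip hf U (le_preimage hip hf hs U) s).choose

theorem coeff_spec (U : X.Opens) (h : p ⁻¹ᵁ (f ⁻¹ᵁ U) ≤ F ⁻¹ᵁ U) (s : Γ(X, U)) :
    F.appLE U (p ⁻¹ᵁ (f ⁻¹ᵁ U)) h s = p.app (f ⁻¹ᵁ U) (f.app U s) +
      p.app (f ⁻¹ᵁ U) (coeff sq hi hip hf hs U s) * eps p q (f ⁻¹ᵁ U) :=
  (exists_coeff sq hi hip hf U (le_preimage hip hf hs U) s).choose_spec.1

/-- Evaluation at points. -/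
theorem eval_coeff (z : Spec (CommRingCat.of k) ⟶ Z) (z' : Te k ⟶ Ze) (h1 : z' ≫ p = je k ≫ z)
    (h2 : z' ≫ q = 𝟙 _) (U : X.Opens) (h : ⊤ ≤ z ⁻¹ᵁ (f ⁻¹ᵁ U)) (h' : ⊤ ≤ (z' ≫ F) ⁻¹ᵁ U)
    (s : Γ(X, U)) :
    (z' ≫ F).appLE U ⊤ h' s = (je k).appTop (z.appLE (f ⁻¹ᵁ U) ⊤ h (f.app U s)) +
      (je k).appTop (z.appLE (f ⁻¹ᵁ U) ⊤ h (coeff sq hi hip hf hs U s)) * E k := by
  have hle : ⊤ ≤ z' ⁻¹ᵁ (p ⁻¹ᵁ (f ⁻¹ᵁ U)) := by
    rw [← Scheme.Hom.comp_preimage, h1, Scheme.Hom.comp_preimage]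
    exact (je k).preimage_mono h
  have e1 : F.appLE U (p ⁻¹ᵁ (f ⁻¹ᵁ U)) (le_preimage hip hf hs U) ≫
      z'.appLE (p ⁻¹ᵁ (f ⁻¹ᵁ U)) ⊤ hle = (z' ≫ F).appLE U ⊤ h' := by
    rw [Scheme.Hom.appLE_comp_appLE]
  have e2 : p.app (f ⁻¹ᵁ U) ≫ z'.appLE (p ⁻¹ᵁ (f ⁻¹ᵁ U)) ⊤ hle =
      z.appLE (f ⁻¹ᵁ U) ⊤ h ≫ (je k).appTop := by
    rw [← Scheme.Hom.comp_appLE]
    have h7 : ∀ (r : Te k ⟶ Z) (_ : r = je k ≫ z) (h''), r.appLE (f ⁻¹ᵁ U) ⊤ h'' =
        z.appLE (f ⁻¹ᵁ U) ⊤ h ≫ (je k).appTop := by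
      rintro r rfl h''
      have := Scheme.Hom.appLE_comp_appLE (je k) z (f ⁻¹ᵁ U) ⊤ ⊤ h le_top
      rw [← this]
      congr 1
    exact h7 _ h1 _
  have e3 : z'.appLE (p ⁻¹ᵁ (f ⁻¹ᵁ U)) ⊤ hle (eps p q (f ⁻¹ᵁ U)) = E k := by
    rw [appLE_eps]
    have h7 : ∀ (r : Te k ⟶ Te k) (_ : r = 𝟙 _), r.appLE ⊤ ⊤ le_top (E k) = E k := by
      rintro r rfl
      have : (𝟙 (Te k) : Te k ⟶ Te k).appLE ⊤ ⊤ le_top = 𝟙 _ :=
        (Scheme.Hom.appLE_eq_app (𝟙 (Te k))).trans (Scheme.Hom.id_app _)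
      rw [this]
      rfl
    exact h7 _ h2
  refine (congr($e1 s)).symm.trans ?_
  refine (congrArg (z'.appLE (p ⁻¹ᵁ (f ⁻¹ᵁ U)) ⊤ hle)
    (coeff_spec sq hi hip hf hs U (le_preimage hip hf hs U) s)).trans ?_
  rw [map_add, map_mul, e3]
  congr 1
  · exact congr($e2 (f.app U s))
  · congr 1
    exact congr($e2 (coeff sq hi hip hf hs U s))

/-- The derivation attached to `F`. -/
noncomputable def der (π : X ⟶ Y) (h0 : ∀ (V : Y.Opens) (c : Γ(Y, V)),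
      coeff sq hi hip hf hs (π ⁻¹ᵁ V) (π.app V c) = 0) :
    OmegaSh.Der π ((Scheme.Modules.pushforward f).obj (Coh.structureModule Z)) :=
  K583.DerAffine.mkDer π ((Scheme.Modules.pushforward f).obj (Coh.structureModule Z))
    (fun U =>
    { toFun := fun s => OmegaSh.strSect Z (f ⁻¹ᵁ U) (coeff sq hi hip hf hs U s)
      map_zero' := by
        refine coeff_unique sq (f ⁻¹ᵁ U) (s := f.app U 0) ?_
        refine (coeff_spec sq hi hip hf hs U (le_preimage hip hf hs U) 0).symm.trans ?_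
        change _ = _ + p.app (f ⁻¹ᵁ U) (0 : Γ(Z, f ⁻¹ᵁ U)) * _
        rw [map_zero, map_zero, map_zero, zero_mul, add_zero]
      map_add' := fun s t => by
        refine coeff_unique sq (f ⁻¹ᵁ U) (s := f.app U (s + t)) ?_
        refine (coeff_spec sq hi hip hf hs U (le_preimage hip hf hs U) (s + t)).symm.trans ?_
        rw [map_add, coeff_spec sq hi hip hf hs, coeff_spec sq hi hip hf hs]
        change _ = _ + p.app (f ⁻¹ᵁ U) (coeff sq hi hip hf hs U s + coeff sq hi hip hf hs U t) * _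
        rw [map_add, map_add, map_add]
        ring })
    (fun U s t => by
      change coeff sq hi hip hf hs U (s * t) = f.app U s * coeff sq hi hip hf hs U t +
        f.app U t * coeff sq hi hip hf hs U s
      refine coeff_unique sq (f ⁻¹ᵁ U) (s := f.app U (s * t)) ?_
      refine (coeff_spec sq hi hip hf hs U (le_preimage hip hf hs U) (s * t)).symm.trans ?_
      rw [map_mul, map_mul, map_add, map_mul, map_mul, map_mul,
        coeff_spec sq hi hip hf hs, coeff_spec sq hi hip hf hs]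
      have := eps_mul_eps p q (f ⁻¹ᵁ U)
      linear_combination ((p.app (f ⁻¹ᵁ U) (coeff sq hi hip hf hs U s)) *
        (p.app (f ⁻¹ᵁ U) (coeff sq hi hip hf hs U t))) * this)
    (fun U V h s => by
      change coeff sq hi hip hf hs V (X.presheaf.map (homOfLE h).op s) =
        Z.presheaf.map (homOfLE (f.preimage_mono h)).op (coeff sq hi hip hf hs U s)
      refine coeff_unique sq (f ⁻¹ᵁ V) (s := f.app V (X.presheaf.map (homOfLE h).op s)) ?_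
      refine (coeff_spec sq hi hip hf hs V (le_preimage hip hf hs V) _).symm.trans ?_
      have h1 : X.presheaf.map (homOfLE h).op ≫ F.appLE V (p ⁻¹ᵁ (f ⁻¹ᵁ V)) (le_preimage hip hf hs V) =
          F.appLE U (p ⁻¹ᵁ (f ⁻¹ᵁ U)) (le_preimage hip hf hs U) ≫
            Ze.presheaf.map (homOfLE (p.preimage_mono (f.preimage_mono h))).op := by
        rw [Scheme.Hom.map_appLE, Scheme.Hom.appLE_map]
      have h3 : ∀ t, p.app (f ⁻¹ᵁ V) (Z.presheaf.map (homOfLE (f.preimage_mono h)).op t) =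
        Ze.presheaf.map (homOfLE (p.preimage_mono (f.preimage_mono h))).op (p.app (f ⁻¹ᵁ U) t) := fun t =>
        congr(($(p.naturality (homOfLE (f.preimage_mono h)).op)).hom t)
      have h4 : ∀ t, f.app V (X.presheaf.map (homOfLE h).op t) =
        Z.presheaf.map (homOfLE (f.preimage_mono h)).op (f.app U t) := fun t =>
        congr(($(f.naturality (homOfLE h).op)).hom t)
      refine (congr($h1 s)).trans ?_
      refine (congrArg (Ze.presheaf.map (homOfLE (p.preimage_mono (f.preimage_mono h))).op)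
        (coeff_spec sq hi hip hf hs U (le_preimage hip hf hs U) s)).trans ?_
      rw [map_add, map_mul, map_eps p q (f.preimage_mono h), ← h3, ← h3, h4])
    (fun V c => h0 V c)

theorem dv_der (π : X ⟶ Y) (h0 : ∀ (V : Y.Opens) (c : Γ(Y, V)),
      coeff sq hi hip hf hs (π ⁻¹ᵁ V) (π.app V c) = 0) (U : X.Opens) (s : Γ(X, U)) :
    dv f (der sq hi hip hf hs π h0) U s = coeff sq hi hip hf hs U s := rfl

end Der

end K925.DualD
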