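import Groth.Agent.EtpbcA.P1Charts
import Groth.Agent.FlatB.PushGlue
import Groth.Agent.Sga4h.H276.P1
import Mathlib.Algebra.Polynomial.Laurent
import Mathlib.AlgebraicGeometry.AlgClosed.Basic

/-!
# Glueing morphisms from `P¹_C`, and its points

* `exists_glue`: morphisms from the two charts of `P¹_C` agreeing on `Spec C[T;T⁻¹]` glue;
* `zp C t : Spec C ⟶ P¹_C`: the point `t` of the chart `0`;
* over an algebraically closed field: functions and morphisms on `P¹` are determined by their values at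
  the points `t ≠ 0`.
-/

set_option autoImplicit false
universe u
open CategoryTheory CategoryTheory.Limits AlgebraicGeometry Opposite Polynomial
open scoped LaurentPolynomial

namespace K925.P1Glue

open Groth.Agent.EtpbcA.P1Charts Groth.Agent.CycB.P1Chart

section Glue

variable (C : Type u) [CommRing C]

/-- The coordinates of the two charts on `Spec C[T;T⁻¹]`. -/
noncomputable def ur : Fin (1 + 1) → (C[X] →+* C[T;T⁻¹])
  | 0 => Polynomial.toLaurent
  | 1 => (LaurentPolynomial.invert : C[T;T⁻¹] ≃ₐ[C] C[T;T⁻¹]).toRingEquiv.toRingHom.comp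
      Polynomial.toLaurent

/-- `Spec C[T;T⁻¹]` in the chart `i`. -/
noncomputable def uu (i : Fin (1 + 1)) : Spec (CommRingCat.of C[T;T⁻¹]) ⟶ AA (CommRingCat.of C) :=
  Spec.map (CommRingCat.ofHom (ur C i))

theorem uu_chart (i : Fin (1 + 1)) :
    uu C i ≫ chart i (CommRingCat.of C) = uu C 0 ≫ chart 0 (CommRingCat.of C) := by
  fin_cases i
  · rfl
  · change uu C 1 ≫ chart 1 _ = _
    have h0 := map_pt (CommRingCat.ofHom (ur C 0)) 0 (pr (CommRingCat.of C)) (Polynomial.X : C[X])
    have h1 := map_pt (CommRingCat.ofHom (ur C 1)) 1 (pr (CommRingCat.of C)) (Polynomial.X : C[X])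
    have e0 : (CommRingCat.ofHom (ur C 0)).hom (Polynomial.X : C[X]) = LaurentPolynomial.T 1 :=
      Polynomial.toLaurent_X
    have e1 : (CommRingCat.ofHom (ur C 1)).hom (Polynomial.X : C[X]) = LaurentPolynomial.T (-1) := by
      change LaurentPolynomial.invert (Polynomial.toLaurent (Polynomial.X : C[X])) = _
      rw [Polynomial.toLaurent_X, LaurentPolynomial.invert_T]
    rw [e0] at h0
    rw [e1] at h1
    have eb : Spec.map (CommRingCat.ofHom (ur C 1)) ≫ pr (CommRingCat.of C) =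
        Spec.map (CommRingCat.ofHom (ur C 0)) ≫ pr (CommRingCat.of C) := by
      rw [pr, ← Spec.map_comp, ← Spec.map_comp]
      congr 1
      refine CommRingCat.hom_ext (RingHom.ext fun c => ?_)
      change LaurentPolynomial.invert (Polynomial.toLaurent (Polynomial.C c)) = Polynomial.toLaurent (Polynomial.C c)
      rw [Polynomial.toLaurent_C, LaurentPolynomial.invert_C]
    rw [eb] at h1
    refine h1.trans (Eq.trans ?_ h0.symm)
    refine (pt_inv 0 _ ?_).symm
    rw [← LaurentPolynomial.T_add]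
    rfl

theorem isOpenImmersion_uu0 : IsOpenImmersion (uu C 0) :=
  IsOpenImmersion.of_isLocalization (S := C[T;T⁻¹]) (X : C[X])

/-- The inversion. -/
noncomputable def inv : Spec (CommRingCat.of C[T;T⁻¹]) ⟶ Spec (CommRingCat.of C[T;T⁻¹]) :=
  Spec.map (CommRingCat.ofHom (LaurentPolynomial.invert : C[T;T⁻¹] ≃ₐ[C] C[T;T⁻¹]).toRingEquiv.toRingHom)

instance : IsIso (inv C) := by
  unfold inv
  have : IsIso (CommRingCat.ofHom (LaurentPolynomial.invert : C[T;T⁻¹] ≃ₐ[C] C[T;T⁻¹]).toRingEquiv.toRingHom) :=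
    (ConcreteCategory.isIso_iff_bijective _).2 (LaurentPolynomial.invert : C[T;T⁻¹] ≃ₐ[C] C[T;T⁻¹]).bijective
  infer_instance

theorem uu_one : uu C 1 = inv C ≫ uu C 0 := by
  rw [inv, uu, uu, ← Spec.map_comp]
  rfl

instance isOpenImmersion_uu (i : Fin (1 + 1)) : IsOpenImmersion (uu C i) := by
  have h0 := isOpenImmersion_uu0 C
  fin_cases i
  · exact h0
  · change IsOpenImmersion (uu C 1)
    rw [uu_one]
    infer_instance

theorem range_uu (i : Fin (1 + 1)) :
    Set.range (uu C i) = {w : AA (CommRingCat.of C) | (X : C[X]) ∉ w.asIdeal} := by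
  have h0 : Set.range (uu C 0) = {w : AA (CommRingCat.of C) | (X : C[X]) ∉ w.asIdeal} :=
    PrimeSpectrum.localization_away_comap_range C[T;T⁻¹] (X : C[X])
  fin_cases i
  · exact h0
  · change Set.range (uu C 1) = _
    rw [uu_one, ← h0]
    have : Function.Surjective (inv C) := (inv C).surjective
    ext w
    constructor
    · rintro ⟨t, rfl⟩
      exact ⟨inv C t, (Scheme.Hom.comp_apply _ _ _).symm⟩
    · rintro ⟨t, rfl⟩
      obtain ⟨s, rfl⟩ := this t
      exact ⟨s, Scheme.Hom.comp_apply _ _ _⟩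

/-- `Spec C[T;T⁻¹]` in `P¹_C`. -/
noncomputable def jc : Spec (CommRingCat.of C[T;T⁻¹]) ⟶ PP (CommRingCat.of C) :=
  uu C 0 ≫ chart 0 (CommRingCat.of C)

instance : IsOpenImmersion (jc C) := by
  unfold jc
  infer_instance

theorem mem_range_jc {z : PP (CommRingCat.of C)} (i : Fin (1 + 1))
    (h0 : z ∈ Set.range (chart i (CommRingCat.of C)))
    (h1 : z ∈ Set.range (chart (i + 1) (CommRingCat.of C))) : z ∈ Set.range (jc C) := by
  obtain ⟨w, rfl⟩ := h1
  have h2 := (chart_mem_range_iff i (CommRingCat.of C) w).1 h0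
  have h3 : w ∈ Set.range (uu C (i + 1)) := by
    rw [range_uu]
    exact h2
  obtain ⟨y, rfl⟩ := h3
  refine ⟨y, ?_⟩
  rw [jc, ← uu_chart C (i + 1), Scheme.Hom.comp_apply]

/-- **Glueing on `P¹_C`**. -/
theorem exists_glue {Y : Scheme.{u}} (h : Fin (1 + 1) → (AA (CommRingCat.of C) ⟶ Y))
    (hh : uu C 0 ≫ h 0 = uu C 1 ≫ h 1) :
    ∃ F : PP (CommRingCat.of C) ⟶ Y, ∀ i, chart i (CommRingCat.of C) ≫ F = h i := by
  have hh' : ∀ i, uu C i ≫ h i = uu C 0 ≫ h 0 := by
    intro i
    fin_cases i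
    · rfl
    · exact hh.symm
  have hi : ∀ i : Fin (1 + 1), i + 1 + 1 = i := by decide
  have hne : ∀ i j : Fin (1 + 1), i ≠ j → j = i + 1 := by decide
  let I : Type u := ULift.{u} (Option (Fin (1 + 1)))
  let S : I → Scheme.{u} := fun k => match k.down with
    | none => Spec (CommRingCat.of C[T;T⁻¹])
    | some _ => AA (CommRingCat.of C)
  let g : ∀ k : I, S k ⟶ PP (CommRingCat.of C) := fun k => match k with
    | ⟨none⟩ => jc C
    | ⟨some i⟩ => chart i (CommRingCat.of C)
  let f : ∀ k : I, S k ⟶ Y := fun k => match k with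
    | ⟨none⟩ => uu C 0 ≫ h 0
    | ⟨some i⟩ => h i
  have hg : ∀ k, IsOpenImmersion (g k) := by
    rintro ⟨_ | i⟩
    · exact inferInstanceAs (IsOpenImmersion (jc C))
    · exact inferInstanceAs (IsOpenImmersion (chart i (CommRingCat.of C)))
  obtain ⟨F, hF⟩ := Groth.Agent.FlatB.PushGlue.exists_glue S g f
    (fun z => by
      obtain ⟨i, hi⟩ := chart_cover (CommRingCat.of C) z
      exact ⟨⟨some i⟩, hi⟩)
    (by
      rintro ⟨_ | i⟩ ⟨_ | j⟩ x hx hx'
      · exact ⟨⟨none⟩, 𝟙 _, 𝟙 _, Category.id_comp _, Category.id_comp _, hx, rfl⟩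
      · exact ⟨⟨none⟩, 𝟙 _, uu C j, Category.id_comp _, uu_chart C j, hx,
          (Category.id_comp _).trans (hh' j).symm⟩
      · exact ⟨⟨none⟩, uu C i, 𝟙 _, uu_chart C i, Category.id_comp _, hx',
          (hh' i).trans (Category.id_comp _).symm⟩
      · by_cases hij : i = j
        · subst hij
          exact ⟨⟨some i⟩, 𝟙 _, 𝟙 _, Category.id_comp _, Category.id_comp _, hx, rfl⟩
        · obtain rfl := hne i j hij
          exact ⟨⟨none⟩, uu C i, uu C (i + 1), uu_chart C i, uu_chart C (i + 1),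
            mem_range_jc C i hx hx', (hh' i).trans (hh' (i + 1)).symm⟩)
  exact ⟨F, fun i => hF ⟨some i⟩⟩

variable {C} in
/-- The point `t` of the chart `0` of `P¹_C`. -/
noncomputable def zp (t : C) : Spec (CommRingCat.of C) ⟶ PP (CommRingCat.of C) :=
  pt (B := CommRingCat.of C) 0 (𝟙 _) t

variable {C}

theorem zp_toB (t : C) : zp t ≫ toB (CommRingCat.of C) = 𝟙 _ := pt_toBase _ _ _

theorem zp_eq (t : C) : zp t = Spec.map (CommRingCat.ofHom (Polynomial.evalRingHom t)) ≫
    chart 0 (CommRingCat.of C) := by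
  have h0 := map_pt (CommRingCat.ofHom (Polynomial.evalRingHom t)) 0 (pr (CommRingCat.of C))
    (Polynomial.X : C[X])
  refine Eq.trans ?_ h0.symm
  have e1 : (CommRingCat.ofHom (Polynomial.evalRingHom t)).hom (Polynomial.X : C[X]) = t :=
    Polynomial.eval_X
  rw [e1, zp]
  congr 1
  rw [pr, ← Spec.map_comp, ← CommRingCat.ofHom_comp]
  have e2 : (Polynomial.evalRingHom t).comp (Polynomial.C : C →+* C[X]) = RingHom.id C := by
    ext x
    simp
  rw [e2]
  exact (Spec.map_id _).symm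

/-- The ring map `C[T;T⁻¹] → C`, `T ↦ t`. -/
noncomputable def evL (t : Cˣ) : C[T;T⁻¹] →+* C := LaurentPolynomial.eval₂ (RingHom.id C) t

theorem evL_toLaurent (t : Cˣ) : (evL t).comp (Polynomial.toLaurent : C[X] →+* C[T;T⁻¹]) =
    Polynomial.evalRingHom (t : C) := by
  apply Polynomial.ringHom_ext
  · intro a
    simp [evL]
  · simp [evL]

theorem zp_unit (t : Cˣ) : zp (t : C) = Spec.map (CommRingCat.ofHom (evL t)) ≫ jc C := by
  rw [zp_eq, jc, ← Category.assoc]
  congr 1
  rw [uu, ← Spec.map_comp, ← CommRingCat.ofHom_comp]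
  congr 2
  exact (evL_toLaurent t).symm

/-- Naturality of the points. -/
theorem map_zp {C' : Type u} [CommRing C'] (φ : C →+* C') (t : C) :
    Spec.map (CommRingCat.ofHom φ) ≫ zp t =
      zp (φ t) ≫ Groth.Agent.Dix.ProjProper.mapBase 1 (Spec.map (CommRingCat.ofHom φ)) := by
  rw [zp, map_pt, Category.comp_id]
  apply hom_ext
  · rw [Category.assoc]
    have h1 : Groth.Agent.Dix.ProjProper.mapBase 1 (Spec.map (CommRingCat.ofHom φ)) ≫
        toZ (Spec (CommRingCat.of C)) = toZ (Spec (CommRingCat.of C')) :=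
      Groth.Agent.Dix.ProjProper.mapBase_toZ 1 _
    rw [h1, zp, pt_toZ, pt_toZ]
  · rw [Category.assoc, Groth.Agent.Dix.ProjProper.mapBase_toBase, pt_toBase, zp, pt_toBase_assoc,
      Category.id_comp]

end Glue

section Field

open Groth.Agent.CohqB.ProjBC

variable {k : Type u} [Field k]

/-- The point `t` of the projective line. -/
noncomputable def zt (t : k) : Spec (CommRingCat.of k) ⟶ CohB1.ProjSpace 1 k :=
  zp t ≫ (projSpaceOverIso 1 k).hom

theorem zt_toSpec (t : k) : zt t ≫ CohB1.ProjSpace.toSpec 1 k = 𝟙 _ := by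
  rw [zt, Category.assoc, projSpaceOverIso_hom_toSpec]
  exact zp_toB t

variable (k) in
/-- `G_m` in the projective line. -/
noncomputable def jk : Spec (CommRingCat.of k[T;T⁻¹]) ⟶ CohB1.ProjSpace 1 k :=
  jc k ≫ (projSpaceOverIso 1 k).hom

instance : IsOpenImmersion (jk k) := by
  unfold jk
  infer_instance

theorem zt_unit (t : kˣ) : zt (t : k) = Spec.map (CommRingCat.ofHom (evL t)) ≫ jk k := by
  rw [zt, zp_unit, Category.assoc]
  rfl

theorem jk_toSpec : jk k ≫ CohB1.ProjSpace.toSpec 1 k =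
    Spec.map (CommRingCat.ofHom (algebraMap k k[T;T⁻¹])) := by
  rw [jk, Category.assoc, projSpaceOverIso_hom_toSpec, jc, Category.assoc]
  have h1 : chart 0 (CommRingCat.of k) ≫ CohB1.ProjSpaceOver.toBase 1 (Spec (CommRingCat.of k)) =
    pr (CommRingCat.of k) := chart_toB 0 (CommRingCat.of k)
  rw [h1, uu, ← Spec.map_comp]
  congr 1
  refine CommRingCat.hom_ext (RingHom.ext fun c => ?_)
  exact Polynomial.toLaurent_C c

instance isIntegral_P1 : IsIntegral (CohB1.ProjSpace 1 k) :=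
  (Groth.Agent.Sga4B.P1Curve.isSmoothProperCurve_of_isPullback k (S := Spec (CommRingCat.of k))
    (a := (projSpaceOverIso 1 k).inv) (b := CohB1.ProjSpace.toSpec 1 k) (x := 𝟙 _)
    (IsPullback.of_horiz_isIso ⟨by rw [projSpaceOverIso_inv_toBase, Category.comp_id]⟩)).2.2.1

instance isProper_P1 : IsProper (CohB1.ProjSpace.toSpec 1 k) :=
  Groth.Agent.Sga4h.H276.P1.proper_str k

instance nonempty_Gm : Nonempty (Spec (CommRingCat.of k[T;T⁻¹])) :=
  inferInstanceAs (Nonempty (PrimeSpectrum k[T;T⁻¹]))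

theorem dense_range_jk : Dense (Set.range (jk k)) :=
  IsOpen.dense (jk k).isOpenEmbedding.isOpen_range (Set.range_nonempty _)

theorem finiteType_Gm : LocallyOfFiniteType (Spec.map (CommRingCat.ofHom (algebraMap k k[T;T⁻¹]))) := by
  rw [← jk_toSpec]
  infer_instance

variable [IsAlgClosed k]

theorem exists_unit_zt {x : CohB1.ProjSpace 1 k} (hx : x ∈ Set.range (jk k)) (hc : IsClosed {x}) :
    ∃ t : kˣ, zt (t : k) (IsLocalRing.closedPoint k) = x := by
  obtain ⟨w, rfl⟩ := hx
  have hw : IsClosed {w} := by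
    have h1 : (jk k) ⁻¹' {jk k w} = {w} := by
      ext y
      constructor
      · intro hy
        exact (jk k).isOpenEmbedding.injective hy
      · rintro rfl
        rfl
    rw [← h1]
    exact hc.preimage (jk k).continuous
  have := finiteType_Gm (k := k)
  let y := pointOfClosedPoint (Spec.map (CommRingCat.ofHom (algebraMap k k[T;T⁻¹]))) w hw
  have hy : y ≫ Spec.map (CommRingCat.ofHom (algebraMap k k[T;T⁻¹])) = 𝟙 _ := pointOfClosedPoint_comp ..
  have hyw : y (IsLocalRing.closedPoint k) = w := pointOfClosedPoint_apply ..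
  obtain ⟨φ, hφ⟩ := Spec.map_surjective y
  let t : kˣ := Units.map (φ.hom : k[T;T⁻¹] →* k)
    ⟨LaurentPolynomial.T 1, LaurentPolynomial.T (-1), by rw [← LaurentPolynomial.T_add]; simp,
      by rw [← LaurentPolynomial.T_add]; simp⟩
  refine ⟨t, ?_⟩
  have h2 : φ.hom.comp (algebraMap k k[T;T⁻¹]) = RingHom.id k := by
    have h3 : Spec.map (CommRingCat.ofHom (algebraMap k k[T;T⁻¹]) ≫ φ) = Spec.map (𝟙 _) := by
      rw [Spec.map_comp, hφ, hy, Spec.map_id]
    exact congrArg CommRingCat.Hom.hom (Spec.map_injective h3)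
  have h4 : evL t = φ.hom := by
    refine IsLocalization.ringHom_ext (R := k[X]) (Submonoid.powers (X : k[X])) ?_
    have e1 : (algebraMap k[X] k[T;T⁻¹]) = (Polynomial.toLaurent : k[X] →+* k[T;T⁻¹]) := rfl
    rw [e1, evL_toLaurent]
    apply Polynomial.ringHom_ext
    · intro b
      have := congr($h2 b)
      rw [Polynomial.coe_evalRingHom, Polynomial.eval_C, RingHom.comp_apply, Polynomial.toLaurent_C]
      exact this.symm
    · rw [Polynomial.coe_evalRingHom, Polynomial.eval_X, RingHom.comp_apply, Polynomial.toLaurent_X]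
      rfl
  rw [zt_unit, h4, Scheme.Hom.comp_apply]
  congr 1
  rw [← hyw, ← hφ]
  rfl

/-- Functions on opens of `P¹` are determined by their values at the points `t ≠ 0`. -/
theorem eq_zero_of_zt (V : (CohB1.ProjSpace 1 k).Opens) (g : Γ(CohB1.ProjSpace 1 k, V))
    (h : ∀ (t : kˣ) (h : ⊤ ≤ (zt (t : k)) ⁻¹ᵁ V), (zt (t : k)).appLE V ⊤ h g = 0) : g = 0 := by
  have hred : IsReduced (CohB1.ProjSpace 1 k) := inferInstance
  rw [← basicOpen_eq_bot_iff]
  by_contra hne
  have hne' : ((CohB1.ProjSpace 1 k).basicOpen g : Set (CohB1.ProjSpace 1 k)).Nonempty := by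
    rw [Set.nonempty_iff_ne_empty]
    intro h0
    exact hne (TopologicalSpace.Opens.ext h0)
  obtain ⟨x, hx, hx'⟩ := dense_range_jk.inter_open_nonempty _
    ((CohB1.ProjSpace 1 k).basicOpen g).isOpen hne'
  have hft : LocallyOfFiniteType (CohB1.ProjSpace.toSpec 1 k) := inferInstance
  have := LocallyOfFiniteType.jacobsonSpace (CohB1.ProjSpace.toSpec 1 k)
  obtain ⟨z, hz, hzc⟩ := nonempty_inter_closedPoints (Z := ((CohB1.ProjSpace 1 k).basicOpen g :
    Set (CohB1.ProjSpace 1 k)) ∩ Set.range (jk k)) ⟨x, hx, hx'⟩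
    (((CohB1.ProjSpace 1 k).basicOpen g).isOpen.inter (jk k).isOpenEmbedding.isOpen_range).isLocallyClosed
  obtain ⟨t, rfl⟩ := exists_unit_zt hz.2 hzc
  have hall : ∀ s : Spec (CommRingCat.of k), s = IsLocalRing.closedPoint k := fun s => Subsingleton.elim _ _
  have hV : ⊤ ≤ (zt (t : k)) ⁻¹ᵁ V := by
    intro s _
    rw [hall s]
    exact (CohB1.ProjSpace 1 k).basicOpen_le g hz.1
  have h1 := h t hV
  have h2 : (⊤ : (Spec (CommRingCat.of k)).Opens) ≤ (zt (t : k)) ⁻¹ᵁ (CohB1.ProjSpace 1 k).basicOpen g := by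
    intro s _
    rw [hall s]
    exact hz.1
  have h3 : (Spec (CommRingCat.of k)).basicOpen ((zt (t : k)).appLE V ⊤ hV g) =
      ⊤ ⊓ (zt (t : k)) ⁻¹ᵁ (CohB1.ProjSpace 1 k).basicOpen g := by
    rw [Scheme.basicOpen_appLE]
  rw [h1, Scheme.basicOpen_zero, top_inf_eq] at h3
  have h4 : (IsLocalRing.closedPoint k : Spec (CommRingCat.of k)) ∈ (⊥ : (Spec (CommRingCat.of k)).Opens) := by
    rw [h3]
    exact h2 trivial
  exact h4

/-- Morphisms from `P¹` to a separated scheme are determined by their values at the points `t ≠ 0`. -/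
theorem hom_ext_zt {Y : Scheme.{u}} (i : Y ⟶ Spec (CommRingCat.of k)) [IsSeparated i]
    [LocallyOfFiniteType i] {f g : CohB1.ProjSpace 1 k ⟶ Y}
    (hf : f ≫ i = CohB1.ProjSpace.toSpec 1 k) (hg : g ≫ i = CohB1.ProjSpace.toSpec 1 k)
    (h : ∀ t : kˣ, zt (t : k) ≫ f = zt (t : k) ≫ g) : f = g := by
  have hft : LocallyOfFiniteType (f ≫ i) := by rw [hf]; infer_instance
  refine ext_of_apply_eq i (Set.range (jk k)) (jk k).isOpenEmbedding.isOpen_range.isLocallyClosed
    dense_range_jk ?_ (hf.trans hg.symm)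
  intro x hx hc
  obtain ⟨t, rfl⟩ := exists_unit_zt hx hc
  rw [← Scheme.Hom.comp_apply, h, Scheme.Hom.comp_apply]

omit [IsAlgClosed k] in
/-- A global function on `P¹` vanishing at a point is zero. -/
theorem eq_zero_of_top (z : Spec (CommRingCat.of k) ⟶ CohB1.ProjSpace 1 k)
    (g : Γ(CohB1.ProjSpace 1 k, ⊤)) (h : z.appTop g = 0) : g = 0 := by
  have hF : IsField Γ(CohB1.ProjSpace 1 k, ⊤) := isField_of_universallyClosed k (CohB1.ProjSpace.toSpec 1 k)
  let _ := hF.toField
  have hnt : Nontrivial Γ(Spec (CommRingCat.of k), ⊤) := inferInstance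
  by_contra hg
  have hu : IsUnit g := IsUnit.mk0 g hg
  have := hu.map z.appTop.hom
  change IsUnit (z.appTop g) at this
  rw [h] at this
  exact not_isUnit_zero this

end Field

end K925.P1Glue
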