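import Groth.Agent.AGF.K499.ActPts
import Groth.Agent.Sga3B.Parab.OppS172
import Groth.Agent.AGF.K925.P1Glue

/-!
# Families over `P¹_C` from a cocharacter

`G` acts on `X`, `lam` a cocharacter of `G`, `o 0`, `o 1` points of `X` fixed by `lam`.  If
`g₁ ∈ U_G(λ)(C)`, `g₂ ∈ U_G(-λ)(C)` satisfy `g₁ · o 0 = g₂ · o 1 = x` then `t ↦ λ(t) · x` extends to a
morphism `P¹_C ⟶ X`, equal to `o 0` at `t = 0`.
-/

set_option autoImplicit false
set_option linter.unusedSectionVars false
universe u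
open CategoryTheory MonoidalCategory CartesianMonoidalCategory MonObj GrpObj AlgebraicGeometry
open scoped LaurentPolynomial Polynomial

namespace K925.Fam

open Groth.Agent.Sga3B Groth.Agent.Sga3B.Parab Groth.Agent.EtpbcA.P1Charts K925.P1Glue K499.ActPts
open Groth.Agent.Sga3B.Parab.OppS172 Groth.Agent.Sga3B.Parab.OppPts172

section General

variable {S : Scheme.{u}} {G X : Over S} [GrpObj G] (a : AlgGrp.Action G X)
variable (lam : Red.Gm S ⟶ G) [IsMonHom lam]

/-- The point is fixed by the cocharacter. -/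
def Fixes (o : 𝟙_ (Over S) ⟶ X) : Prop :=
  ∀ (T : Over S) (t : T ⟶ Red.Gm S), lift (t ≫ lam) (toUnit T ≫ o) ≫ a.act = toUnit T ≫ o

variable {a lam}

theorem inv_fixes {o : 𝟙_ (Over S) ⟶ X} (ho : Fixes a lam o) {T : Over S} (t : T ⟶ Red.Gm S) :
    lift (t ≫ lam)⁻¹ (toUnit T ≫ o) ≫ a.act = toUnit T ≫ o := by
  have h := inv_lift a (t ≫ lam) (toUnit T ≫ o)
  rwa [ho T t] at h

variable {C : Type u} [CommRing C] {c : Spec (CommRingCat.of C) ⟶ S}

variable (a lam) in
/-- The family `λ(T) · x` over `Spec C[T;T⁻¹]`. -/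
noncomputable def tor (x : aff C c ⟶ X) : gmo C c ⟶ X :=
  lift (tPt C c ≫ lam) (gmPr C c ≫ x) ≫ a.act

/-- `λ(T) g λ(T)⁻¹ · o = λ(T) · (g · o)` -/
theorem orb_fix {o : 𝟙_ (Over S) ⟶ X} (ho : Fixes a lam o) (g : aff C c ⟶ G) :
    orb lam g ≫ a.orbitMap o = tor a lam (g ≫ a.orbitMap o) := by
  rw [comp_orbitMap, orb, _root_.mul_assoc, mul_lift, mul_lift, inv_fixes ho, tor, comp_orbitMap]
  congr 2
  rw [comp_lift_assoc]
  congr 2

theorem invT_orb (g : aff C c ⟶ G) : invT C c ≫ orb (negLam lam) g = orb lam g := by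
  have h1 : invT C c ≫ tPt C c ≫ negLam lam = tPt C c ≫ lam := by
    rw [negLam, ← Category.assoc, ← Category.assoc, Category.assoc (invT C c), ← invT_tPt,
      ← Category.assoc (invT C c) (invT C c)]
    have : invT C c ≫ invT C c = 𝟙 _ := by
      ext1
      change Spec.map _ ≫ Spec.map _ = 𝟙 _
      rw [← Spec.map_comp, ← CommRingCat.ofHom_comp]
      have : (LaurentPolynomial.invert (R := C)).toAlgHom.toRingHom.comp
          (LaurentPolynomial.invert (R := C)).toAlgHom.toRingHom = RingHom.id _ := by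
        apply RingHom.ext
        intro x
        exact LaurentPolynomial.involutive_invert x
      rw [this]
      exact Spec.map_id _
    rw [this, Category.id_comp]
  have h2 : invT C c ≫ gmPr C c = gmPr C c := by
    ext1
    change Spec.map _ ≫ Spec.map _ = Spec.map _
    rw [← Spec.map_comp, ← CommRingCat.ofHom_comp]
    congr 2
    exact (LaurentPolynomial.invert (R := C)).toAlgHom.comp_algebraMap
  rw [orb, orb, MonObj.comp_mul, MonObj.comp_mul, GrpObj.comp_inv, h1, ← Category.assoc, h2]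

theorem uu_zero_eq : uu C 0 = (toLin C c).left := rfl

theorem uu_one_eq : uu C 1 = (invT C c ≫ toLin C c).left := by
  rw [uu_one, uu_zero_eq (c := c)]
  rfl

theorem zp_zero_eq {Y : Scheme.{u}} (F : PP (CommRingCat.of C) ⟶ Y) :
    zp (0 : C) ≫ F = (zeroSec C c).left ≫ chart 0 (CommRingCat.of C) ≫ F := by
  rw [zp_eq, Category.assoc]
  have h : (CommRingCat.ofHom (Polynomial.evalRingHom (0 : C))) =
      CommRingCat.ofHom (Polynomial.aeval (R := C) (0 : C)).toRingHom := by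
    congr 1
  rw [h]
  rfl

/-- **Extension of `t ↦ λ(t) · x` to the projective line.** -/
theorem exists_family (o : Fin (1 + 1) → (𝟙_ (Over S) ⟶ X)) (ho : ∀ i, Fixes a lam (o i))
    {g₁ g₂ : aff C c ⟶ G} (h₁ : LimOne lam g₁) (h₂ : LimOne (negLam lam) g₂)
    (hg : g₁ ≫ a.orbitMap (o 0) = g₂ ≫ a.orbitMap (o 1)) :
    ∃ F : PP (CommRingCat.of C) ⟶ X.left, F ≫ X.hom = toB (CommRingCat.of C) ≫ c ∧
      zp (0 : C) ≫ F = (toUnit (aff C c) ≫ o 0).left ∧
      jc C ≫ F = (tor a lam (g₁ ≫ a.orbitMap (o 0))).left := by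
  obtain ⟨f₁, hf₁, hf₁'⟩ := h₁
  obtain ⟨f₂, hf₂, hf₂'⟩ := h₂
  let h : Fin (1 + 1) → (AA (CommRingCat.of C) ⟶ X.left)
    | 0 => (f₁ ≫ a.orbitMap (o 0)).left
    | 1 => (f₂ ≫ a.orbitMap (o 1)).left
  have e1 : toLin C c ≫ f₁ ≫ a.orbitMap (o 0) = tor a lam (g₁ ≫ a.orbitMap (o 0)) := by
    rw [← Category.assoc, hf₁, orb_fix (ho 0)]
  have e2 : (invT C c ≫ toLin C c) ≫ f₂ ≫ a.orbitMap (o 1) =
      tor a lam (g₁ ≫ a.orbitMap (o 0)) := by
    rw [hg, ← orb_fix (ho 1), ← invT_orb, Category.assoc, ← Category.assoc (toLin C c), hf₂,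
      Category.assoc]
  have hh : uu C 0 ≫ h 0 = uu C 1 ≫ h 1 := by
    have e3 : uu C 0 ≫ h 0 = (toLin C c ≫ f₁ ≫ a.orbitMap (o 0)).left := by
      rw [uu_zero_eq (c := c)]
      rfl
    have e4 : uu C 1 ≫ h 1 = ((invT C c ≫ toLin C c) ≫ f₂ ≫ a.orbitMap (o 1)).left := by
      rw [uu_one_eq (c := c)]
      rfl
    rw [e3, e4, e1, e2]
  obtain ⟨F, hF⟩ := exists_glue C h hh
  refine ⟨F, ?_, ?_, ?_⟩
  · let 𝒰 : (PP (CommRingCat.of C)).OpenCover :=
      { I₀ := ULift.{u} (Fin (1 + 1))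
        X := fun _ => AA (CommRingCat.of C)
        f := fun i => chart i.down (CommRingCat.of C)
        mem₀ := by
          rw [Scheme.presieve₀_mem_precoverage_iff]
          refine ⟨fun x => ?_, fun i => inferInstance⟩
          obtain ⟨i, hi⟩ := chart_cover (CommRingCat.of C) x
          exact ⟨⟨i⟩, hi⟩ }
    apply Scheme.Cover.hom_ext 𝒰
    rintro ⟨i⟩
    change chart i (CommRingCat.of C) ≫ F ≫ X.hom = chart i (CommRingCat.of C) ≫ toB _ ≫ c
    rw [← Category.assoc, hF, ← Category.assoc, chart_toB]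
    fin_cases i
    · exact Over.w (f₁ ≫ a.orbitMap (o 0))
    · exact Over.w (f₂ ≫ a.orbitMap (o 1))
  · rw [zp_zero_eq (c := c), hF]
    change (zeroSec C c ≫ f₁ ≫ a.orbitMap (o 0)).left = _
    rw [← Category.assoc, hf₁', comp_orbitMap, one_lift]
  · rw [jc, Category.assoc, hF, uu_zero_eq (c := c)]
    change (toLin C c ≫ f₁ ≫ a.orbitMap (o 0)).left = _
    rw [e1]

end General

section Field

open Groth.Agent.Sga3B.Parab.Chart998

variable {k : Type u} [Field k]

/-- The point `t` of `Spec C[T;T⁻¹]`. -/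
noncomputable def evt {S : Scheme.{u}} {C : Type u} [CommRing C] (c : Spec (CommRingCat.of C) ⟶ S) (t : Cˣ) :
    aff C c ⟶ gmo C c :=
  Over.homMk (Spec.map (CommRingCat.ofHom (evL t))) (by
    change Spec.map _ ≫ Spec.map _ ≫ c = c
    rw [← Category.assoc, ← Spec.map_comp, ← CommRingCat.ofHom_comp]
    have h : (evL t).comp (algebraMap C C[T;T⁻¹]) = RingHom.id C := by
      ext x
      simp [evL]
    rw [h]
    exact (congrArg (· ≫ c) (Spec.map_id _)).trans (Category.id_comp c))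

/-- The rational point `t` of `𝔾_m`. -/
noncomputable def tpt (t : kˣ) : 𝟙_ (Over (Spec (CommRingCat.of k))) ⟶ Red.Gm (Spec (CommRingCat.of k)) :=
  (evt (𝟙 (Spec (CommRingCat.of k))) t ≫ tPt k (𝟙 (Spec (CommRingCat.of k))) :
    aff k (𝟙 (Spec (CommRingCat.of k))) ⟶ Red.Gm (Spec (CommRingCat.of k)))

/-- The structure morphism of a `k`-algebra. -/
noncomputable abbrev st (k C : Type u) [Field k] [CommRing C] [Algebra k C] :
    Spec (CommRingCat.of C) ⟶ Spec (CommRingCat.of k) :=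
  Spec.map (CommRingCat.ofHom (algebraMap k C))

variable {C : Type u} [CommRing C] [Algebra k C]

/-- The character `n ↦ tⁿ`. -/
noncomputable def pw (t : Cˣ) : Multiplicative ℤ →* C := (Units.coeHom C).comp (zpowersHom Cˣ t)

theorem evL_T (t : Cˣ) (n : ℤ) : evL t (LaurentPolynomial.T n) = pw t (Multiplicative.ofAdd n) := by
  simp [evL, pw]

theorem evt_tPt (t : kˣ) : evt (st k C) (Units.map (algebraMap k C : k →* C) t) ≫ tPt C (st k C) =
    toUnit (aff C (st k C)) ≫ tpt t := by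
  rw [comp_tPt (evt (st k C) (Units.map (algebraMap k C : k →* C) t)) (evL (Units.map (algebraMap k C : k →* C) t))
    rfl _ (evL_T _)]
  have h1 : toUnit (aff C (st k C)) ≫ tpt t =
      (toUnit (aff C (st k C)) ≫ evt (𝟙 (Spec (CommRingCat.of k))) t) ≫ tPt k (𝟙 (Spec (CommRingCat.of k))) :=
    (Category.assoc _ _ _).symm
  rw [h1]
  refine (comp_tPt (C := k) (c := 𝟙 (Spec (CommRingCat.of k)))
    (toUnit (aff C (st k C)) ≫ evt (𝟙 (Spec (CommRingCat.of k))) t)
    ((algebraMap k C).comp (evL t)) ?_ _ (fun n => ?_)).symm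
  · have h2 : (toUnit (aff C (st k C))).left = st k C := by
      have := Over.w (toUnit (aff C (st k C)))
      exact (Category.comp_id _).symm.trans this
    rw [Over.comp_left, h2]
    change Spec.map _ ≫ Spec.map _ = _
    rw [← Spec.map_comp]
    rfl
  · rw [RingHom.comp_apply, evL_T, pw, pw]
    change algebraMap k C ((t ^ n : kˣ) : k) = ((Units.map (algebraMap k C : k →* C) t ^ n : Cˣ) : C)
    rw [← map_zpow]
    rfl

variable {G X : Over (Spec (CommRingCat.of k))} [GrpObj G] {a : AlgGrp.Action G X}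
  {lam : Red.Gm (Spec (CommRingCat.of k)) ⟶ G} [IsMonHom lam]

/-- Evaluation of the family `λ(T) · x` at a point. -/
theorem evt_tor (x : aff C (st k C) ⟶ X) (t : kˣ) :
    evt (st k C) (Units.map (algebraMap k C : k →* C) t) ≫ tor a lam x = x ≫ tr a (tpt t ≫ lam) := by
  rw [tor, comp_tr, comp_lift_assoc, ← Category.assoc, evt_tPt, Category.assoc]
  congr 2
  rw [← Category.assoc]
  have : evt (st k C) (Units.map (algebraMap k C : k →* C) t) ≫ gmPr C (st k C) = 𝟙 _ := by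
    ext1
    change Spec.map _ ≫ Spec.map _ = 𝟙 _
    rw [← Spec.map_comp, ← CommRingCat.ofHom_comp]
    have h : (evL (Units.map (algebraMap k C : k →* C) t)).comp (algebraMap C C[T;T⁻¹]) = RingHom.id C := by
      ext x
      simp [evL]
    rw [h]
    exact Spec.map_id _
  rw [this, Category.id_comp]

/-- **Extension of `t ↦ λ(t) · x` to the projective line**, with values at the points. -/
theorem exists_family_eval (o : Fin (1 + 1) → (𝟙_ (Over (Spec (CommRingCat.of k))) ⟶ X))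
    (ho : ∀ i, Fixes a lam (o i))
    {g₁ g₂ : aff C (st k C) ⟶ G} (h₁ : LimOne lam g₁) (h₂ : LimOne (negLam lam) g₂)
    {x : aff C (st k C) ⟶ X} (hx₁ : g₁ ≫ a.orbitMap (o 0) = x) (hx₂ : g₂ ≫ a.orbitMap (o 1) = x) :
    ∃ F : PP (CommRingCat.of C) ⟶ X.left, F ≫ X.hom = toB (CommRingCat.of C) ≫ st k C ∧
      zp (0 : C) ≫ F = (toUnit (aff C (st k C)) ≫ o 0).left ∧
      ∀ t : kˣ, zp (algebraMap k C t) ≫ F = (x ≫ tr a (tpt t ≫ lam)).left := by
  obtain ⟨F, hF1, hF2, hF3⟩ := exists_family o ho h₁ h₂ (hx₁.trans hx₂.symm)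
  refine ⟨F, hF1, hF2, fun t => ?_⟩
  have h := zp_unit (Units.map (algebraMap k C : k →* C) t)
  rw [← evt_tor, ← hx₁]
  have h' : zp (algebraMap k C t) = Spec.map (CommRingCat.ofHom (evL (Units.map (algebraMap k C : k →* C) t))) ≫
    jc C := h
  rw [h', Category.assoc, hF3]
  rfl

end Field

end K925.Fam
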