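import Groth.Agent.AGF.K925.Curve
import Groth.Agent.Agf.H586.QuotSep
import Groth.Agent.Nrm16.K136.UnivOmega
import Groth.Agent.CurvesB.HZero

/-!
# The rational curve on `G/P`
-/

set_option autoImplicit false
universe u
open CategoryTheory MonoidalCategory CartesianMonoidalCategory MonObj GrpObj AlgebraicGeometry Limits

namespace K925.Final

open K925.Cell K925.Lift K925.Curve K499.ActPts

theorem orbitMap_comp {S : Scheme.{u}} {G X Y : Over S} [GrpObj G] {a : AlgGrp.Action G X}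
    {b : AlgGrp.Action G Y} (π : X ⟶ Y) (hπ : a.act ≫ π = (G ◁ π) ≫ b.act)
    (o : 𝟙_ (Over S) ⟶ X) : a.orbitMap o ≫ π = b.orbitMap (o ≫ π) := by
  rw [AlgGrp.Action.orbitMap, AlgGrp.Action.orbitMap, Category.assoc, hπ, ← Category.assoc,
    lift_whiskerLeft, Category.assoc]

variable {k : Type u} [Field k] [IsAlgClosed k] {G P Q X Y : Over (Spec (CommRingCat.of k))}
  [GrpObj G] [GrpObj P] [GrpObj Q] {i : P ⟶ G} {j : Q ⟶ G}
  {a : AlgGrp.Action G X} {o : 𝟙_ (Over (Spec (CommRingCat.of k))) ⟶ X}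
  {b : AlgGrp.Action G Y} {o' : 𝟙_ (Over (Spec (CommRingCat.of k))) ⟶ Y}

omit [IsAlgClosed k] in
/-- The projection `G/P ⟶ G/Q` is smooth for `Q` smooth. -/
theorem smooth_proj [Smooth P.hom] [Smooth Q.hom] [Smooth G.hom] (hX : AGF.IsQuotient i X a o)
    (hY : AGF.IsQuotient j Y b o') (π : X ⟶ Y) (hπ : a.act ≫ π = (G ◁ π) ≫ b.act)
    (ho : o ≫ π = o') : Smooth π.left := by
  have h1 := smooth_orbitMap hX
  have h2 := smooth_orbitMap hY
  have h3 : Surjective (a.orbitMap o).left := hX.2.2.1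
  have h4 : Flat (a.orbitMap o).left := hX.2.1
  have h5 : Smooth ((a.orbitMap o).left ≫ π.left) := by
    rw [← Over.comp_left, orbitMap_comp π hπ, ho]
    exact h2
  exact Groth.Agent.S0115.result (a.orbitMap o).left π.left

end K925.Final
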