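import Groth.Agent.AGF.K925.Cell
import Groth.Agent.Books.AlgPtsIrred
import Groth.Agent.FGA.K276.WeilSm
import Groth.Agent.Sga3B.Parab.DynClosed998

/-!
# Lifting points of `G/P` through the two open cells
-/

set_option autoImplicit false
set_option linter.unusedSectionVars false
universe u
open CategoryTheory MonoidalCategory CartesianMonoidalCategory MonObj GrpObj AlgebraicGeometry Limits

namespace K925.Lift

open Groth.Agent.Sga3B Groth.Agent.Sga3B.Parab K925.Fam K925.Cell K925.P1Glue K499.ActPts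
open Groth.Agent.Sga3B.Parab.DynExist998 Groth.Agent.Sga3B.Parab.DynCell998
open Groth.Agent.Sga3B.Parab.OppPts172 Groth.Agent.EtpbcA.P1Charts Groth.Agent.Books.AlgPts

variable {k : Type u} [Field k] {G P X : Over (Spec (CommRingCat.of k))}
  [GrpObj G] [GrpObj P] {i : P ⟶ G}
  {a : AlgGrp.Action G X} {o : 𝟙_ (Over (Spec (CommRingCat.of k))) ⟶ X}

/-- Points of `X` over square-zero thickenings of `x` lift to `U_G(λ)`. -/
def CanLift (a : AlgGrp.Action G X) (lam : Red.Gm (Spec (CommRingCat.of k)) ⟶ G)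
    (o : 𝟙_ (Over (Spec (CommRingCat.of k))) ⟶ X) (x : Spec (CommRingCat.of k) ⟶ X.left) : Prop :=
  ∀ (C : Type u) [CommRing C] [Algebra k C] (e : Spec (CommRingCat.of k) ⟶ Spec (CommRingCat.of C))
    [IsClosedImmersion e] (_ : ∀ a b : Γ(Spec (CommRingCat.of C), ⊤), e.appTop a = 0 → e.appTop b = 0 → a * b = 0)
    (y : aff C (st k C) ⟶ X) (_ : e ≫ y.left = x),
    ∃ g : aff C (st k C) ⟶ G, LimOne lam g ∧ g ≫ a.orbitMap o = y

theorem canLift_of_smooth {lam : Red.Gm (Spec (CommRingCat.of k)) ⟶ G}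
    {U W : Over (Spec (CommRingCat.of k))} [GrpObj U] {u : U ⟶ G} (hu : IsDynU lam u)
    {o : 𝟙_ (Over (Spec (CommRingCat.of k))) ⟶ X} (h : W ⟶ X) [Smooth h.left] (r : W ⟶ U)
    (hr : r ≫ u ≫ a.orbitMap o = h) {x : Spec (CommRingCat.of k) ⟶ X.left}
    (y : Spec (CommRingCat.of k) ⟶ W.left) (hy : y ≫ h.left = x) : CanLift a lam o x := by
  intro C _ _ e _ hsq z hz
  obtain ⟨l, hl1, hl2⟩ := K276.WeilSm.exists_lift e hsq h.left y z.left (hz.trans hy.symm)
  let L : aff C (st k C) ⟶ W := Over.homMk l (by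
    rw [← Over.w h, ← Category.assoc, hl2]
    exact Over.w z)
  refine ⟨L ≫ r ≫ u, ?_, ?_⟩
  · rw [← Category.assoc]
    exact ((hu.iff_ptU U u).1 ⟨𝟙 _, Category.id_comp _⟩) C _ (L ≫ r)
  · rw [Category.assoc, Category.assoc, hr]
    ext1
    exact hl2

/-- The cell map `(u, b) ↦ u b o = u o`. -/
theorem cell_comp {U B : Over (Spec (CommRingCat.of k))} (u : U ⟶ G) (b : B ⟶ G)
    {o : 𝟙_ (Over (Spec (CommRingCat.of k))) ⟶ X}
    (hfix : ∀ (T : Over (Spec (CommRingCat.of k))) (β : T ⟶ B),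
      lift (β ≫ b) (toUnit T ≫ o) ≫ a.act = toUnit T ≫ o) :
    fst U B ≫ u ≫ a.orbitMap o = ((u ⊗ₘ b) ≫ μ[G]) ≫ a.orbitMap o := by
  have h1 : (u ⊗ₘ b) ≫ μ[G] = (fst U B ≫ u) * (snd U B ≫ b) := by
    rw [Hom.mul_def]
    congr 1
  rw [h1, comp_orbitMap a (fst U B ≫ u * snd U B ≫ b), mul_lift, hfix, ← Category.assoc,
    comp_orbitMap]

theorem smooth_cell [IsAffineHom G.hom] [Smooth G.hom] {lam : Red.Gm (Spec (CommRingCat.of k)) ⟶ G}
    [IsMonHom lam] {U B : Over (Spec (CommRingCat.of k))} [GrpObj U] [GrpObj B] {u : U ⟶ G} {b : B ⟶ G}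
    (hu : IsDynU lam u) (hb : IsDynP (negLam lam) b)
    {o : 𝟙_ (Over (Spec (CommRingCat.of k))) ⟶ X} (ho : Smooth (a.orbitMap o).left)
    (hfix : ∀ (T : Over (Spec (CommRingCat.of k))) (β : T ⟶ B),
      lift (β ≫ b) (toUnit T ≫ o) ≫ a.act = toUnit T ≫ o) :
    Smooth (fst U B ≫ u ≫ a.orbitMap o).left := by
  have hu' : IsDynU (negLam (negLam lam)) u := by rwa [negLam_negLam]
  have h1 := isOpenImmersion_cell (lam := negLam lam) hb hu'
  rw [cell_comp u b hfix, Over.comp_left]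
  infer_instance

variable [IsAlgClosed k]

/-- The combined lifting property. -/
structure Good (a : AlgGrp.Action G X) (lam : Red.Gm (Spec (CommRingCat.of k)) ⟶ G)
    (o : Fin (1 + 1) → (𝟙_ (Over (Spec (CommRingCat.of k))) ⟶ X))
    (x : Spec (CommRingCat.of k) ⟶ X.left) : Prop where
  fix : ∀ i, Fixes a lam (o i)
  lift0 : CanLift a lam (o 0) x
  lift1 : CanLift a (negLam lam) (o 1) x

theorem fixes_of {lam : Red.Gm (Spec (CommRingCat.of k)) ⟶ G}
    {B : Over (Spec (CommRingCat.of k))} [GrpObj B] {b : B ⟶ G}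
    {mu : Red.Gm (Spec (CommRingCat.of k)) ⟶ B} (hmu : mu ≫ b = lam)
    {o : 𝟙_ (Over (Spec (CommRingCat.of k))) ⟶ X}
    (hfix : ∀ (T : Over (Spec (CommRingCat.of k))) (β : T ⟶ B),
      lift (β ≫ b) (toUnit T ≫ o) ≫ a.act = toUnit T ≫ o) : Fixes a lam o := by
  intro T t
  rw [← hmu, ← Category.assoc]
  exact hfix T (t ≫ mu)

/-- **A cocharacter, two fixed points and a point flowing from one to the other.** -/
theorem exists_good (hG : Red.IsReductiveOver k G) (hP : Red.IsParabolicOver k i)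
    (hX : AGF.IsQuotient i X a o) :
    ∃ (lam : Red.Gm (Spec (CommRingCat.of k)) ⟶ G) (_ : IsMonHom lam)
      (o' : Fin (1 + 1) → (𝟙_ (Over (Spec (CommRingCat.of k))) ⟶ X))
      (x : 𝟙_ (Over (Spec (CommRingCat.of k))) ⟶ X), Good a lam o' x.left := by
  have hP' := hP
  obtain ⟨him, hic, his, B, _, b₀, hb⟩ := hP'
  have hGaff : IsAffine G.left := hG.1
  have hGa : IsAffineHom G.hom := inferInstance
  have hGs : Smooth G.hom := hG.2.1
  have hGc : ConnectedSpace G.left := hG.2.2.1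
  obtain ⟨lam, hlam, hPl, B', _, b', hPl', hb'⟩ := exists_lam hG hb
  obtain ⟨g0, hg0⟩ := exists_fixed hG hP hX hb'
  obtain ⟨g1, hg1⟩ := exists_fixed hG hP hX hb
  obtain ⟨U, _, u, hu, -⟩ := exists_isDynU lam
  obtain ⟨U', _, u', hu', -⟩ := exists_isDynU (negLam lam)
  have hlZ := (DynClosed998.ptZ_self (lam := lam))
  have hl1 := (ptZ_iff_and.1 hlZ).1
  have hl2 := (ptZ_iff_and.1 hlZ).2
  obtain ⟨m, hm⟩ := (hPl.iff_ptP _ _).2 hl1
  obtain ⟨m', hm'⟩ := (hPl'.iff_ptP _ _).2 hl2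
  have hPln : IsDynP (negLam (negLam lam)) (b₀ ≫ i) := by rwa [negLam_negLam]
  have hs0 := smooth_cell (a := a) hu hPl' (smooth_orbitMap_pt hX g0) hg0
  have hs1 := smooth_cell (a := a) hu' hPln (smooth_orbitMap_pt hX g1) hg1
  have hXft : LocallyOfFiniteType X.hom := hX.1
  have hXs : Surjective (a.orbitMap o).left := hX.2.2.1
  have hGirr : IrreducibleSpace G.left :=
    Groth.Agent.Books.AlgPtsIrred.irreducibleSpace_of_connectedSpace G
  have hXirr : PreirreducibleSpace X.left := by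
    constructor
    have h1 : IsPreirreducible (Set.univ : Set G.left) := PreirreducibleSpace.isPreirreducible_univ
    have h2 := h1.image (a.orbitMap o).left (a.orbitMap o).left.continuous.continuousOn
    rwa [Set.image_univ, (a.orbitMap o).left.surjective.range_eq] at h2
  let h0 := fst U B' ≫ u ≫ a.orbitMap (lift g0 o ≫ a.act)
  let h1 := fst U' B ≫ u' ≫ a.orbitMap (lift g1 o ≫ a.act)
  have hs0 : Smooth h0.left := hs0
  have hs1 : Smooth h1.left := hs1
  have ho0 : IsOpen (Set.range h0.left) := h0.left.isOpenMap.isOpen_range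
  have ho1 : IsOpen (Set.range h1.left) := h1.left.isOpenMap.isOpen_range
  have hne0 : (Set.range h0.left).Nonempty := by
    refine ⟨h0.left ((lift (η[U]) (η[B'])).left (IsLocalRing.closedPoint k)), ⟨_, rfl⟩⟩
  have hne1 : (Set.range h1.left).Nonempty := by
    refine ⟨h1.left ((lift (η[U']) (η[B])).left (IsLocalRing.closedPoint k)), ⟨_, rfl⟩⟩
  obtain ⟨x, hx⟩ := exists_pt_mem (X := X) (nonempty_preirreducible_inter ho0 ho1 hne0 hne1)
    (ho0.inter ho1).isLocallyClosed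
  have hft0 : LocallyOfFiniteType (U ⊗ B').hom := by
    rw [← Over.w h0]
    infer_instance
  have hft1 : LocallyOfFiniteType (U' ⊗ B).hom := by
    rw [← Over.w h1]
    infer_instance
  obtain ⟨y0, hy0⟩ := exists_comp_eq_of_pt_mem_range h0 x hx.1
  obtain ⟨y1, hy1⟩ := exists_comp_eq_of_pt_mem_range h1 x hx.2
  refine ⟨lam, hlam, ![lift g0 o ≫ a.act, lift g1 o ≫ a.act], x, ?_, ?_, ?_⟩
  · intro j
    fin_cases j
    · exact fixes_of hm' hg0
    · exact fixes_of hm hg1
  · exact canLift_of_smooth hu h0 (fst U B') rfl y0.left congr(($hy0).left)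
  · exact canLift_of_smooth hu' h1 (fst U' B) rfl y1.left congr(($hy1).left)

end K925.Lift
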